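import Cfsg.Agent.Mrg.Omega.NO3S.EThree.Frame
import Cfsg.Agent.Mrg.Omega.OM.BlkGen
import Cfsg.Agent.Mrg.Omega.ML.MinFrame
import Cfsg.Agent.MinSimple.MinParabolic
import Cfsg.Agent.Mrg.Omega.OM.UniPlus
import Cfsg.Agent.Mrg.Omega.OM.Dich
import Cfsg.Agent.Mrg.Omega.OM.Swap.Facts
import Cfsg.Agent.Mrg.Omega.OM.Swap.Plug
import Cfsg.Agent.Mrg.Omega.OM.Swap.End

section


/-!
# NO-3S, several natural factors, case (E): step (4) of bb #18482 (helper750), over `(B, Z_J)`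

`i`, `j` partners (`Pa`), `T = N_S(Z i) = N_S(Z j)`, `M = N(Z i) ⊓ N(Z j)`; `R` a subgroup of `N(Z i)` normalised by `M`
which does not normalise `Z j`. Then `L j ≤ R ⊔ M`.

* `BlkAt` : `L'` centralises `Z_J ⊓ C m` and induces on `Z m` what `L m` induces; `Dich4` : every minimal parabolic over
  `T` in `N(Z i)` normalises `Z_J`, centralises `Ω₁Z(T)`, or is generated by `T` and such a block (input);
* `exch` : an element of `N_G(B) ⊓ N(Z i)` not normalising `Z j` conjugates `L j` into `M`;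
* `four`, `four_sup`, `four_norm` : **(4)**.
-/

set_option autoImplicit false
set_option linter.unusedVariables false
set_option linter.unusedSectionVars false

namespace Cfsg.Agent.Omega.NO3S.EMany.Four

open Subgroup Cfsg Cfsg.Agent.ZN.ChoiceBase
open Cfsg.Agent.ZN (zc zl o2)
open Cfsg.Agent.ZN.ChoiceSit (Syl exists_syl syl_conj)
open Cfsg.Agent.MinSimple.MinParabolic (IsMinPar)
open Cfsg.Agent.Omega.NO3S.EThree.Frame

universe u

variable {G : Type u} [Group G]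

/-- `L'` centralises `ZJ ⊓ C m` and induces on `Z m` what `L m` induces. -/
structure BlkAt {ι : Type} (ZJ : Subgroup G) (L Z C : ι → Subgroup G) (m : ι) (L' : Subgroup G) : Prop where
  cen : ∀ z ∈ ZJ, z ∈ C m → ∀ l' ∈ L', l' * z = z * l'
  mv : ∀ l ∈ L m, ∃ l' ∈ L', ∀ z ∈ Z m, l' * z * l'⁻¹ = l * z * l⁻¹

/-- Minimal parabolics over `T` in `N(Z i)`. -/
def Dich4 {ι : Type} (ZJ : Subgroup G) (L Z C : ι → Subgroup G) (T : Subgroup G) (i : ι) : Prop :=
  ∀ Y : Subgroup G, IsMinPar T Y → Y ≤ normalizer (Z i : Set G) →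
    Y ≤ normalizer (ZJ : Set G) ∨ Y ≤ centralizer (zc T : Set G) ∨
      ∃ m L', L' ≤ Y ∧ Y ≤ L' ⊔ T ∧ BlkAt ZJ L Z C m L'

/-- A 2-group acting on a nontrivial 2-group has a nontrivial fixed point. -/
theorem exists_fix [Finite G] {P M : Subgroup G} (hP : IsPGroup 2 P) (hM : IsPGroup 2 M) (hM1 : M ≠ ⊥)
    (hn : ∀ x ∈ P, ∀ v ∈ M, x * v * x⁻¹ ∈ M) : ∃ v ∈ M, v ≠ 1 ∧ ∀ x ∈ P, x * v * x⁻¹ = v := by
  have : Fact (Nat.Prime 2) := ⟨Nat.prime_two⟩
  let act : MulAction P M :=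
    { smul := fun x v => ⟨(x : G) * v * (x : G)⁻¹, hn x x.2 v v.2⟩
      one_smul := fun v => Subtype.ext (by show (1 : G) * v * (1 : G)⁻¹ = v; group)
      mul_smul := fun x y v => Subtype.ext (by
        show ((x : G) * y) * v * ((x : G) * y)⁻¹ = x * (y * v * (y : G)⁻¹) * (x : G)⁻¹; group) }
  have h2 : 2 ∣ Nat.card M := by
    obtain ⟨n, hn⟩ := IsPGroup.iff_card.1 hM
    rcases Nat.eq_zero_or_pos n with h0 | h0
    · rw [h0, pow_zero] at hn
      exact absurd (Subgroup.card_eq_one.1 hn) hM1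
    · rw [hn]; exact dvd_pow_self 2 h0.ne'
  obtain ⟨v, hv, hv1⟩ := hP.exists_fixed_point_of_prime_dvd_card_of_fixed_point M h2 (a := (1 : M))
    (fun x => Subtype.ext (by show (x : G) * 1 * (x : G)⁻¹ = 1; group))
  exact ⟨v, v.2, fun h => hv1 (Subtype.ext h.symm), fun x hx => congrArg Subtype.val (hv ⟨x, hx⟩)⟩

variable [Finite G] {S : Sylow 2 G} {P : Subgroup G} {ι : Type} {B ZJ : Subgroup G}
  {L W Z C : ι → Subgroup G} {q : ℕ} (h : Bg S P B ZJ L W Z C q)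
include h

/-- `L j` centralises `Z i`, `i ≠ j`. -/
theorem L_cent {i j : ι} (hij : j ≠ i) {l : G} (hl : l ∈ L j) {z : G} (hz : z ∈ Z i) : l * z = z * l :=
  h.fr.LC j l hl z (h.fr.Z_le i hz) (h.fr.WjC j i hij ((h.fr.blk i).ZV hz))

theorem L_le_centralizer {i j : ι} (hij : j ≠ i) : L j ≤ centralizer (Z i : Set G) :=
  fun l hl => mem_centralizer_iff.2 fun z hz => (L_cent h hij hl hz).symm

/-- `C_G(Z_J) ≤ M` -/
theorem cent_le (i j : ι) : centralizer (ZJ : Set G) ≤ normalizer (Z i : Set G) ⊓ normalizer (Z j : Set G) :=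
  le_inf ((centralizer_le (h.fr.Z_le i)).trans (centralizer_le_normalizer _))
    ((centralizer_le (h.fr.Z_le j)).trans (centralizer_le_normalizer _))

/-- A block at `m` gives `L m`. -/
theorem L_le_of_blkAt {m : ι} {L' : Subgroup G} (hb : BlkAt ZJ L Z C m L') :
    L m ≤ L' ⊔ centralizer (ZJ : Set G) := by
  intro l hl
  obtain ⟨l', hl', hact⟩ := hb.mv l hl
  have h1 : l'⁻¹ * l ∈ centralizer (ZJ : Set G) := by
    rw [mem_centralizer_iff]
    intro z hz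
    obtain ⟨w, hw, c, hc, hcJ, rfl⟩ := h.fr.split_ZJ m hz
    have e1 : l * c = c * l := h.fr.LC m l hl c hcJ hc
    have e2 : l' * c = c * l' := hb.cen c hcJ hc l' hl'
    have e3 : l' * w * l'⁻¹ = l * w * l⁻¹ := hact w hw
    have e4 : l'⁻¹ * l * w = w * (l'⁻¹ * l) := by
      have : l * w * l⁻¹ = l' * w * l'⁻¹ := e3.symm
      calc l'⁻¹ * l * w = l'⁻¹ * (l * w * l⁻¹) * l := by group
        _ = l'⁻¹ * (l' * w * l'⁻¹) * l := by rw [this]
        _ = w * (l'⁻¹ * l) := by group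
    have e5 : l'⁻¹ * l * c = c * (l'⁻¹ * l) := by
      have e6 : l'⁻¹ * c = c * l'⁻¹ := by
        calc l'⁻¹ * c = l'⁻¹ * (c * l') * l'⁻¹ := by group
          _ = l'⁻¹ * (l' * c) * l'⁻¹ := by rw [e2]
          _ = c * l'⁻¹ := by group
      calc l'⁻¹ * l * c = l'⁻¹ * (l * c) := by group
        _ = l'⁻¹ * (c * l) := by rw [e1]
        _ = (l'⁻¹ * c) * l := by group
        _ = c * l'⁻¹ * l := by rw [e6]
        _ = c * (l'⁻¹ * l) := by group
    calc w * c * (l'⁻¹ * l) = w * (c * (l'⁻¹ * l)) := by group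
      _ = w * (l'⁻¹ * l * c) := by rw [e5]
      _ = (w * (l'⁻¹ * l)) * c := by group
      _ = (l'⁻¹ * l * w) * c := by rw [e4]
      _ = l'⁻¹ * l * (w * c) := by group
  have e : l = l' * (l'⁻¹ * l) := by group
  rw [e]
  exact mul_mem (mem_sup_left hl') (mem_sup_right h1)

/-- Frattini: `N(Z_J) = C(Z_J) N(B)`. -/
theorem exists_frattini {y : G} (hy : y ∈ normalizer (ZJ : Set G)) :
    ∃ d ∈ centralizer (ZJ : Set G), d * y ∈ normalizer (B : Set G) := by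
  have h1 : cj y (centralizer (ZJ : Set G)) = centralizer (ZJ : Set G) := by
    rw [cj_centralizer, cj_eq_of_mem_normalizer hy]
  have h2 : Syl (cj y B) (centralizer (ZJ : Set G)) := by
    refine ⟨?_, isPGroup_cj y h.syl_B.2.1, fun Q hQ hQ2 hle => ?_⟩
    · rw [← h1]
      exact cj_mono y h.syl_B.1
    · symm
      refine Subgroup.eq_of_le_of_card_ge hle ?_
      have h3 := h.syl_B.2.2 (cj y⁻¹ Q) (by
        rw [cj_le_iff, inv_inv, h1]
        exact hQ) (isPGroup_cj _ hQ2) (by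
        rw [← cj_inv_cj y B]
        exact cj_mono _ hle)
      rw [← card_cj y⁻¹ Q, h3, card_cj]
  obtain ⟨d, hd, e⟩ := syl_conj h2 h.syl_B
  refine ⟨d, hd, ?_⟩
  rw [mem_normalizer_iff_cj, ← cj_cj, e]

/-- `n ∈ N_G(B) ⊓ N(Z i)` with `(Z j)^n ≠ Z j` conjugates `L j` into `M`. -/
theorem exch {i j : ι} (hij : i ≠ j) {n : G} (hB : n ∈ normalizer (B : Set G))
    (hi : n ∈ normalizer (Z i : Set G)) (hj : n ∉ normalizer (Z j : Set G)) :
    cj n (L j) ≤ normalizer (Z i : Set G) ⊓ normalizer (Z j : Set G) := by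
  obtain ⟨m, hm, -⟩ := (h.nrm n⁻¹ (inv_mem hB)).2 j
  have hmj : j ≠ m := by
    rintro rfl
    exact hj (inv_mem_iff.1 (mem_normalizer_iff_cj.2 hm))
  refine le_trans ?_ (inf_le_inf (centralizer_le_normalizer _) (centralizer_le_normalizer _))
  refine le_inf ?_ ?_
  · have h1 := cj_mono n (L_le_centralizer h hij.symm)
    rwa [cj_centralizer, cj_eq_of_mem_normalizer hi] at h1
  · have h1 := cj_mono n (L_le_centralizer h hmj)
    rw [cj_centralizer, ← hm, cj_cj, mul_inv_cancel, cj_one] at h1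
    exact h1

variable {i j : ι} {s : G} (p : Pa (S : Subgroup G) W i j s)
include p

/-- **(4).** -/
theorem four [Finite ι] (hTI : TI (Z j))
    (hD : Dich4 ZJ L Z C ((S : Subgroup G) ⊓ normalizer (Z i : Set G)) i) {R : Subgroup G}
    (hRi : R ≤ normalizer (Z i : Set G))
    (hRM : normalizer (Z i : Set G) ⊓ normalizer (Z j : Set G) ≤ normalizer (R : Set G))
    (hmv : ¬ R ≤ normalizer (Z j : Set G)) :
    L j ≤ R ⊔ (normalizer (Z i : Set G) ⊓ normalizer (Z j : Set G)) := by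
  set T : Subgroup G := (S : Subgroup G) ⊓ normalizer (Z i : Set G) with hT
  set M : Subgroup G := normalizer (Z i : Set G) ⊓ normalizer (Z j : Set G) with hM
  have hTM : T ≤ M := h.T_le p
  have hT2 : IsPGroup 2 T := S.isPGroup'.to_le inf_le_left
  have hBT : B ≤ T := h.bau_le_T i
  -- `n ∈ N(B)`, in `R ⊔ M` and `N(Z i)`, not in `N(Z j)`
  have key : ∀ n ∈ normalizer (B : Set G), n ∈ R ⊔ M → n ∈ normalizer (Z i : Set G) →
      n ∉ normalizer (Z j : Set G) → L j ≤ R ⊔ M := by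
    intro n hB hRn hi hj l hl
    have h1 := exch h p.ne hB hi hj (⟨l, hl, rfl⟩ : n * l * n⁻¹ ∈ cj n (L j))
    have h2 : n * l * n⁻¹ ∈ R ⊔ M := mem_sup_right h1
    have h3 := mul_mem (mul_mem (inv_mem hRn) h2) hRn
    have e : n⁻¹ * (n * l * n⁻¹) * n = l := by group
    rwa [e] at h3
  by_contra hcon
  apply hmv
  refine le_trans (le_sup_left : R ≤ R ⊔ T) ?_
  refine MinSimple.MinParabolic.le_of_forall le_sup_right ?_ fun Y hY hYX => ?_
  · -- `N_{RT}(T)`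
    rintro n ⟨hn, hnT⟩
    by_contra hnj
    refine hcon (key n ?_ (sup_le_sup_left hTM R hn) ((sup_le hRi inf_le_right) hn) hnj)
    rw [mem_normalizer_iff_cj]
    refine h.wc T hT2 hBT n ?_
    rw [← mem_normalizer_iff_cj.1 hnT]
    exact cj_mono n hBT
  · have hYi : Y ≤ normalizer (Z i : Set G) := hYX.trans (sup_le hRi inf_le_right)
    have hYM : Y ≤ R ⊔ M := hYX.trans (sup_le_sup_left hTM R)
    rcases hD Y hY hYi with h1 | h1 | ⟨m, L', h1, h2, h3⟩
    · -- `Y ≤ N(Z_J)`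
      intro y hy
      by_contra hyj
      obtain ⟨d, hd, hdy⟩ := exists_frattini h (h1 hy)
      have hdM : d ∈ M := cent_le h i j hd
      refine hcon (key (d * y) hdy (mul_mem (mem_sup_right hdM) (hYM hy)) (mul_mem (mem_inf.1 hdM).1 (hYi hy)) fun hc => ?_)
      apply hyj
      have h5 := mul_mem (inv_mem (mem_inf.1 hdM).2) hc
      rwa [inv_mul_cancel_left] at h5
    · -- `Y` centralises `Ω₁Z(T)`
      obtain ⟨z, hz, hz1, hzT⟩ : ∃ z ∈ Z j, z ≠ 1 ∧ z ∈ zc T := by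
        obtain ⟨z, hz, hz1, hf⟩ := exists_fix hT2 (h.Z_two j) (h.Z_ne j) fun x hx v hv =>
          (mem_normalizer_iff.1 (mem_inf.1 (hTM hx)).2 v).1 hv
        refine ⟨z, hz, hz1, mem_zc.2 ⟨hBT ((h.fr.blk j).VB ((h.fr.blk j).ZV hz)), h.fr.Vsq (h.fr.ZV j hz),
          fun x hx => ?_⟩⟩
        have h2 := hf x hx
        calc x * z = x * z * x⁻¹ * x := by group
          _ = z * x := by rw [h2]
      intro y hy
      rw [mem_normalizer_iff_cj]
      refine hTI y fun hbot => hz1 ?_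
      have h2 : z ∈ cj y (Z j) ⊓ Z j := by
        refine mem_inf.2 ⟨?_, hz⟩
        rw [mem_cj]
        have h3 := mem_centralizer_iff.1 (h1 hy) z hzT
        have h4 : y⁻¹ * z * y = z := by
          calc y⁻¹ * z * y = y⁻¹ * (z * y) := by group
            _ = y⁻¹ * (y * z) := by rw [h3]
            _ = z := by group
        rwa [h4]
      rwa [hbot, mem_bot] at h2
    · by_cases hmj : m = j
      · exfalso
        subst hmj
        apply hcon
        exact (L_le_of_blkAt h h3).trans (sup_le (h1.trans hYM) ((cent_le h i m).trans le_sup_right))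
      · refine h2.trans (sup_le ?_ (hTM.trans inf_le_right))
        refine le_trans (fun l hl => mem_centralizer_iff.2 fun z hz => ?_) (centralizer_le_normalizer _)
        exact (h3.cen z (h.fr.Z_le j hz) (h.fr.WjC m j hmj ((h.fr.blk j).ZV hz)) l hl).symm

/-- **(4)**: `H = ⟨M, L j⟩ = R M`. -/
theorem four_sup [Finite ι] (hTI : TI (Z j))
    (hD : Dich4 ZJ L Z C ((S : Subgroup G) ⊓ normalizer (Z i : Set G)) i) {R : Subgroup G}
    (hRH : R ≤ (normalizer (Z i : Set G) ⊓ normalizer (Z j : Set G)) ⊔ L j)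
    (hRM : normalizer (Z i : Set G) ⊓ normalizer (Z j : Set G) ≤ normalizer (R : Set G))
    (hmv : ¬ R ≤ normalizer (Z j : Set G)) :
    R ⊔ (normalizer (Z i : Set G) ⊓ normalizer (Z j : Set G)) =
      (normalizer (Z i : Set G) ⊓ normalizer (Z j : Set G)) ⊔ L j := by
  have hRi : R ≤ normalizer (Z i : Set G) := hRH.trans (sup_le inf_le_left (h.L_norm p.ne.symm))
  exact le_antisymm (sup_le hRH le_sup_left) (sup_le le_sup_right (four h p hTI hD hRi hRM hmv))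

/-- `H ≤ N(R)`. -/
theorem four_norm [Finite ι] (hTI : TI (Z j))
    (hD : Dich4 ZJ L Z C ((S : Subgroup G) ⊓ normalizer (Z i : Set G)) i) {R : Subgroup G}
    (hRi : R ≤ normalizer (Z i : Set G))
    (hRM : normalizer (Z i : Set G) ⊓ normalizer (Z j : Set G) ≤ normalizer (R : Set G))
    (hmv : ¬ R ≤ normalizer (Z j : Set G)) :
    (normalizer (Z i : Set G) ⊓ normalizer (Z j : Set G)) ⊔ L j ≤ normalizer (R : Set G) :=
  sup_le hRM ((four h p hTI hD hRi hRM hmv).trans (sup_le Subgroup.le_normalizer hRM))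

/-- Every element of `H` is a product of an element of `R` and an element of `M`. -/
theorem four_mul [Finite ι] (hTI : TI (Z j))
    (hD : Dich4 ZJ L Z C ((S : Subgroup G) ⊓ normalizer (Z i : Set G)) i) {R : Subgroup G}
    (hRi : R ≤ normalizer (Z i : Set G))
    (hRM : normalizer (Z i : Set G) ⊓ normalizer (Z j : Set G) ≤ normalizer (R : Set G))
    (hmv : ¬ R ≤ normalizer (Z j : Set G)) {x : G}
    (hx : x ∈ (normalizer (Z i : Set G) ⊓ normalizer (Z j : Set G)) ⊔ L j) :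
    ∃ r ∈ R, ∃ m ∈ normalizer (Z i : Set G) ⊓ normalizer (Z j : Set G), x = m * r := by
  have h1 := (sup_le le_sup_left ((four h p hTI hD hRi hRM hmv).trans (sup_comm _ _).le)) hx
  rw [← SetLike.mem_coe, Subgroup.coe_mul_of_left_le_normalizer_right _ _ hRM] at h1
  obtain ⟨m, hm, r, hr, rfl⟩ := Set.mem_mul.1 h1
  exact ⟨r, hr, m, hm, rfl⟩

end Cfsg.Agent.Omega.NO3S.EMany.Four

end

section


/-!
# NO-3S, case (E), `q = 2`, `k ≥ 3`: the minimal parabolics over `T = N_S(Z i)` (input `Dich4` of `Four.lean`)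

* `exists_fb` : a minimal parabolic `H` over `T ≥ B(S)` with `J(T) ≰ O₂(H)`, `[Ω₁Z(T), H] ≠ 1` is generated by `T` and an
  FF-block of `H` over `B(S)`;
* `NB.exists_conj` : `q = 2`: a block is transitive on `V - 1`;
* `card_ne_four`, `blkAt` : UNI+ for at least three factors, `q = 2`;
* `dich` : **`Dich4` at stage `-1`**.
-/

set_option autoImplicit false
set_option linter.unusedVariables false
set_option linter.unusedSectionVars false

namespace Cfsg.Agent.Omega.NO3S.EMany.FourD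

open Subgroup Cfsg Cfsg.Agent.ZN.ChoiceBase Cfsg.Agent.ZN.ChoiceSit
open Cfsg.Agent.ZN (jj zj bau zc zl o2)
open Cfsg.Agent.MinSimple.MinParabolic (IsMinPar)
open Cfsg.Agent.Omega
open Cfsg.Agent.Omega.OM
open Cfsg.Agent.Omega.OM.Uni (FB Fr)
open Cfsg.Agent.Omega.OM.UniPlus (NB)
open Cfsg.Agent.Omega.LemmaK (WeakNormal)
open Cfsg.Agent.Omega.LemmaK.Main (le_normalizer_bau)
open Cfsg.Agent.Omega.NO3S.EThree.Frame
open Cfsg.Agent.Omega.NO3S.EMany.Four

universe u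

variable {G : Type u} [Group G]

/-- A minimal parabolic moving `Ω₁Z(T)` with `J(T) ≰ O₂(H)` is generated by `T` and one of its blocks over `B`. -/
theorem exists_fb [Finite G] {T H : Subgroup G} (hFF : FFThm.Stmt.{u}) (S : Sylow 2 G) (hT : Syl T H)
    (hB : bau (S : Subgroup G) ≤ T) (hP : IsMinPar T H) (hc : H ⊓ centralizer (o2 H : Set G) ≤ o2 H)
    (hJ : ¬ jj T ≤ o2 H) (hZ : ¬ H ≤ centralizer (zc T : Set G)) :
    ∃ L V Z q, FB (bau (S : Subgroup G)) L V Z q ∧ L ≤ H ∧ H ≤ L ⊔ T := by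
  have hbau : bau T = bau (S : Subgroup G) := LemmaK.Main.bau_eq S hT.2.1 hB
  have hw : WeakNormal 2 (bau T) := by
    rw [hbau]
    exact fun R hR hBR => le_normalizer_bau S hR hBR
  obtain ⟨A, hA, hoff⟩ := BlkGen.exists_off hT hP hc hJ hZ
  obtain ⟨hno, hcon⟩ := hFF G T H hT hP hc ⟨A, hA.2.1.trans hT.1, hoff⟩
  have hm := SQ1.FFOne.minH_of hT hP hc
  rcases hcon with ⟨F, _, _, _, k, hk, ⟨M⟩⟩ | ⟨k, m, hk, hm2, ⟨M⟩⟩
  · have : Nonempty (Fin k) := ⟨⟨0, hk⟩⟩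
    set N := (SQ1.FFOne.natKB_of hT hc hJ hk M).toFFK hm with hN
    obtain ⟨E, hE⟩ := N.toInK hm
    obtain ⟨L, hL⟩ := hE.exists_blk ⟨0, hk⟩
    have hpb := FBK.pb hm N hE hw hL
    refine ⟨L, _, _, _, by rw [← hbau]; exact hpb.fb, fun l hl => hL.LH hE hl, ?_⟩
    exact hL.sup_T hE le_sup_right le_sup_left
  · have h := Cfsg.Agent.Omega.OM.syT_of hm hJ M hk (by omega) SQ1.FFOf.cv_le SQ1.FFOf.cv_norm
    obtain ⟨ι, J, X, Y, t, r, c⟩ := h.exists_ch
    have hin := c.main h Cfsg.Agent.Omega.SQ1.SymCyc.exists_pow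
    obtain ⟨j, x, y, hTr⟩ := h.exists_tr
    obtain ⟨i, -⟩ := c.ex j x y hTr
    obtain ⟨L, hL⟩ := hin.exists_blk i
    have hpb := FBS.pb hin hw hL
    refine ⟨L, _, _, _, by rw [← hbau]; exact hpb.fb, hL.LP.trans (hin.PP_le i), ?_⟩
    exact hL.sup_T hin le_sup_right le_sup_left

theorem eq_of_card_two {Z : Subgroup G} (h : Nat.card Z = 2) {x y : G} (hx : x ∈ Z) (hy : y ∈ Z) (hx1 : x ≠ 1)
    (hy1 : y ≠ 1) : x = y := by
  obtain ⟨w, -, hw⟩ := (Nat.card_eq_two_iff' (1 : Z)).1 h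
  have h1 := hw ⟨x, hx⟩ fun e => hx1 (congrArg Subtype.val e)
  have h2 := hw ⟨y, hy⟩ fun e => hy1 (congrArg Subtype.val e)
  exact congrArg Subtype.val (h1.trans h2.symm)

/-- `q = 2`: `L` is transitive on `V - 1`. -/
theorem exists_conj [Finite G] {B L V Z : Subgroup G} (h : NB B L V Z 2) {v z : G} (hv : v ∈ V) (hv1 : v ≠ 1)
    (hz : z ∈ Z) (hz1 : z ≠ 1) : ∃ l ∈ L, l * z * l⁻¹ = v := by
  have hZ : ∀ x ∈ Z, x = 1 ∨ x = z := fun x hx => by
    by_cases hx1 : x = 1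
    · exact Or.inl hx1
    · exact Or.inr (eq_of_card_two h.cardZ hx hz hx1 hz1)
  obtain ⟨k, hk, hV, -⟩ := h.spl
  have hcomm : ∀ a ∈ Z, ∀ b ∈ cj k Z, a * b = b * a := fun a ha b hb => h.comm (h.ZV ha) (h.cjV hk hb)
  rw [hV] at hv
  obtain ⟨a, ha, y, hy, rfl⟩ := SQ1.Bau.mem_sup_comm hcomm hv
  obtain ⟨b, hb, rfl⟩ := hy
  change a * (k * b * k⁻¹) ≠ 1 at hv1
  show ∃ l ∈ L, l * z * l⁻¹ = a * (k * b * k⁻¹)
  rcases hZ b hb with rfl | rfl
  · rcases hZ a ha with rfl | rfl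
    · exact absurd (by group) hv1
    · exact ⟨1, one_mem _, by group⟩
  · rcases hZ a ha with rfl | rfl
    · exact ⟨k, hk, by group⟩
    · -- `a = z`, `y = k z k⁻¹` : an element of `B` moves `y`
      have hyZ : k * a * k⁻¹ ∉ Z := by
        intro hc
        have h1 : cj k Z ⊓ Z = ⊥ := by
          refine h.tri' hk fun e => ?_
          rw [e, sup_idem] at hV
          have h2 := h.card
          rw [hV, h.cardZ] at h2
          omega
        have h2 : k * a * k⁻¹ ∈ cj k Z ⊓ Z := ⟨⟨a, hz, rfl⟩, hc⟩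
        rw [h1, mem_bot] at h2
        exact hz1 (conj_eq_one_iff.1 h2)
      obtain ⟨b, hb, u, hu, hne⟩ := h.ne
      have h3 : b * (k * a * k⁻¹) ≠ (k * a * k⁻¹) * b := by
        intro e
        exact hne (h.free b hb _ (h.cjV hk ⟨a, hz, rfl⟩) hyZ e u hu)
      have h4 := h.com b hb _ (h.cjV hk ⟨a, hz, rfl⟩ : k * a * k⁻¹ ∈ V)
      rcases hZ _ h4 with h5 | h5
      · exact absurd (mul_inv_eq_iff_eq_mul.1 (mul_inv_eq_one.1 h5)) h3
      · refine ⟨b * k, mul_mem (h.BL hb) hk, ?_⟩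
        calc b * k * a * (b * k)⁻¹ = b * (k * a * k⁻¹) * b⁻¹ * (k * a * k⁻¹)⁻¹ * (k * a * k⁻¹) := by group
          _ = a * (k * a * k⁻¹) := by rw [h5]

section bs

variable [Finite G] {S : Sylow 2 G} {P : Subgroup G} {ι : Type} {L W Z C A : ι → Subgroup G} {m : ℕ}
  (h : Bs S P L W Z C A 2 m)
include h

/-- `|Z_J| ≠ 4` for three factors. -/
theorem card_ne_four {a b c : ι} (hab : a ≠ b) (hac : a ≠ c) (hbc : b ≠ c) :
    Nat.card (zj (S : Subgroup G)) ≠ 4 := by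
  intro h4
  have hcomm : ∀ {x y : ι}, ∀ u ∈ Z x, ∀ v ∈ Z y, u * v = v * u := fun {x y} u hu v hv =>
    h.fr.Vc (h.fr.ZV x hu) (h.fr.ZV y hv)
  have h1 := SQ1.Bau.card_sup_comm (A := Z b) (B := Z c) hcomm
  have h2 : Z b ⊓ Z c = ⊥ := by
    rw [eq_bot_iff]
    refine le_trans ?_ (h.fr.dir b).le
    exact inf_le_inf (h.fr.blk b).ZV ((h.fr.blk c).ZV.trans (h.fr.WjC b c hbc))
  rw [h2, card_bot, mul_one, h.fr.cardZ, h.fr.cardZ] at h1
  have h3 := SQ1.Bau.card_sup_comm (A := Z a) (B := Z b ⊔ Z c) fun u hu v hv => h.fr.Vc (h.fr.ZV a hu)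
    ((sup_le (h.fr.ZV b) (h.fr.ZV c)) hv)
  have h5 : Z a ⊓ (Z b ⊔ Z c) = ⊥ := by
    rw [eq_bot_iff]
    refine le_trans ?_ (h.fr.dir a).le
    exact inf_le_inf (h.fr.blk a).ZV (sup_le ((h.fr.blk b).ZV.trans (h.fr.WjC a b hab))
      ((h.fr.blk c).ZV.trans (h.fr.WjC a c hac)))
  rw [h5, card_bot, mul_one, h.fr.cardZ, h1] at h3
  have h6 : Nat.card (Z a ⊔ (Z b ⊔ Z c) : Subgroup G) ≤ Nat.card (zj (S : Subgroup G)) :=
    Subgroup.card_le_of_le (sup_le (h.fr.Z_le a) (sup_le (h.fr.Z_le b) (h.fr.Z_le c)))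
  omega

/-- UNI+: every block over `B` is a block at some `m`. -/
theorem blkAt [Finite ι] {a b c : ι} (hab : a ≠ b) (hac : a ≠ c) (hbc : b ≠ c) {L' V' Z' : Subgroup G} {q' : ℕ}
    (h' : FB (bau (S : Subgroup G)) L' V' Z' q') : ∃ n, BlkAt (zj (S : Subgroup G)) L Z C n L' := by
  obtain ⟨rfl, n, rfl, hN, h1⟩ := UniPlus.uniPlus' h.hyp.ctx.char2 h.fr h.bau_two (UniPlus.wc_bau S)
    (fun g hg w hw v hv => by
      rw [(h.norm hg).1] at hw
      exact h.fr.Vc hw hv) h.two h'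
  rcases h1 with ⟨-, h2, h3⟩ | ⟨-, h2, -⟩
  · refine ⟨n, fun z hz hzC l hl => (h2 z hz).1 hzC l hl, fun l hl => ?_⟩
    obtain ⟨rfl, -⟩ := h3 rfl
    obtain ⟨z, hz, hz1⟩ : ∃ x ∈ Z n, x ≠ 1 := by
      by_contra hcon
      push Not at hcon
      exact h.Z_ne n ((eq_bot_iff_forall _).2 hcon)
    have hv : l * z * l⁻¹ ∈ W n := (h.fr.blk n).nV l hl z ((h.fr.blk n).ZV hz)
    obtain ⟨l', hl', e⟩ := exists_conj hN hv (fun e => hz1 (conj_eq_one_iff.1 e)) hz hz1
    refine ⟨l', hl', fun y hy => ?_⟩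
    -- `Z n = {1, z}`
    by_cases hy1 : y = 1
    · rw [hy1]; group
    rw [eq_of_card_two (h.fr.cardZ n) hy hz hy1 hz1]
    exact e
  · exact absurd h2 (card_ne_four h hab hac hbc)

/-- **`Dich4` at stage `-1`.** -/
theorem dich [Finite ι] (hFF : FFThm.Stmt.{u}) {a b c : ι} (hab : a ≠ b) (hac : a ≠ c) (hbc : b ≠ c) (i : ι) :
    Dich4 (zj (S : Subgroup G)) L Z C ((S : Subgroup G) ⊓ normalizer (Z i : Set G)) i := by
  intro Y hY hYi
  set T : Subgroup G := (S : Subgroup G) ⊓ normalizer (Z i : Set G) with hTd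
  have hT : Syl T Y := h.syl_of_le i hY.le hYi
  have hBT : bau (S : Subgroup G) ≤ T := h.bau_le_T i
  by_cases hJ : jj T ≤ o2 Y
  · left
    have h3 : jj (o2 Y) = jj T := Cfsg.Agent.ZN.ChoiceBase.jj_eq_of_jj_le hJ (o2_le_syl hT)
    have h4 : Y ≤ normalizer (jj (S : Subgroup G) : Set G) := by
      rw [← LemmaK.Main.jj_eq S hT.2.1 hBT, ← h3]
      exact (le_normalizer_o2 Y).trans (normalizer_le_jj _)
    refine h4.trans ?_
    have h7 := normalizer_le_of_cj (F := zj) zj_cj (jj (S : Subgroup G))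
    have h8 : zj (jj (S : Subgroup G)) = zj (S : Subgroup G) := zj_congr (jj_eq_of_jj_le le_rfl (jj_le _))
    rwa [h8] at h7
  by_cases hZ : Y ≤ centralizer (zc T : Set G)
  · exact Or.inr (Or.inl hZ)
  right; right
  have hc : Y ⊓ centralizer (o2 Y : Set G) ≤ o2 Y := by
    have h1 : o2 (normalizer (Z i : Set G)) ≤ o2 Y := by
      refine le_o2 (isPGroup_o2 _) ((o2_le_syl (h.syl i)).trans hY.le) ?_
      exact hYi.trans (le_normalizer_o2 _)
    rintro x ⟨hx, hxc⟩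
    exact h1 (h.char_Z i ⟨hYi hx, centralizer_le (by exact_mod_cast h1) hxc⟩)
  obtain ⟨L', V', Z', q', h1, h2, h3⟩ := exists_fb hFF S hT hBT hY hc hJ hZ
  obtain ⟨n, hn⟩ := blkAt h hab hac hbc h1
  exact ⟨n, L', h2, h3, hn⟩

end bs

end Cfsg.Agent.Omega.NO3S.EMany.FourD

end

section


/-!
# NO-3S, case (E), `k ≥ 3`, `d = 1`: the two `T`-fixed vectors (bb #21609 (4), #21788 (f3), (f5)); K-free (helper3)

`X` acts on the elementary abelian 2-group `M`, `T` is a Sylow 2-subgroup of `X`, `z : I → M` are the centres, permuted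
by `T` and by `N_X(T)`, `c = z i₂` is fixed by `T`, `y` = the product of the others, `e = c y`.

* `pz z S` : the product of the `z i`, `i ∈ S`;  `exists_fixed` : the odd orbit argument in a coset of `Y`;
* `Pz X z` : the elements of `X` which permute the `z i`;  `Cyc z m l` : `l` has odd order, `z m, l z m, l² z m` is the
  line of `m`, `l` fixes the other `z j`;  `TyI T z P` : a minimal parabolic of type (i);
* `DIn T B z i₂ y` : **the input**: the trichotomy for the minimal parabolics over `T`,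
  `B ≤ O₂(C_X(c)) ∩ O₂(C_X(y)) ∩ O₂(C_X(c y))`;
* `Out T H U₁ x w` : **the output**;
* **`exists_out`** : `T ≤ H`, `B ≰ O₂(H)`, `H = K₀ T`, `[M, K₀] ≤ U₁` give two `T`-fixed vectors `x, w ∈ U₁` moved by
  `H`; some `P ≥ T` in `H` moves `x` and fixes `w`; every minimal parabolic over `T` in `H`, and `N_H(T)`, fixes some
  `T`-fixed vector of `U₁` which is moved by `H`.
-/

set_option autoImplicit false

namespace Cfsg.Agent.Omega.NO3S.EMany.LowD

open Subgroup Cfsg Cfsg.Agent.ZN Cfsg.Agent.Omega.ML.MinFrame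
open Cfsg.Agent.MinSimple.MinParabolic (IsMinPar le_of_forall)

universe u v w

/-! ### Products over sets of indices -/

section prod

variable {M : Type v} [Group M] {I : Type w}

/-- a group of exponent 2 is commutative -/
theorem mulc (sq : ∀ m : M, m * m = 1) (a b : M) : a * b = b * a := by
  have hi : ∀ m : M, m⁻¹ = m := fun m => inv_eq_of_mul_eq_one_left (sq m)
  calc a * b = (a * b)⁻¹ := (hi _).symm
    _ = b⁻¹ * a⁻¹ := mul_inv_rev a b
    _ = b * a := by rw [hi, hi]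

/-- the product of the `z i`, `i ∈ S` -/
noncomputable def pz (z : I → M) (S : Finset I) : M := (S.toList.map z).prod

theorem pz_congr (sq : ∀ m : M, m * m = 1) {I' : Type*} {z : I → M} {z' : I' → M} {S : Finset I} {S' : Finset I'}
    (h : (S.toList.map z).Perm (S'.toList.map z')) : pz z S = pz z' S' :=
  h.prod_eq' (List.pairwise_of_forall fun a b => mulc sq a b)

theorem pz_erase [DecidableEq I] (sq : ∀ m : M, m * m = 1) (z : I → M) {S : Finset I} {m : I} (hm : m ∈ S) :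
    pz z S = z m * pz z (S.erase m) := by
  have h1 : (S.toList).Perm (m :: (S.erase m).toList) := by
    rw [List.perm_ext_iff_of_nodup (Finset.nodup_toList _)
      (List.nodup_cons.2 ⟨by simp, Finset.nodup_toList _⟩)]
    intro a
    simp only [Finset.mem_toList, List.mem_cons, Finset.mem_erase]
    constructor
    · intro ha
      by_cases h : a = m
      · exact Or.inl h
      · exact Or.inr ⟨h, ha⟩
    · rintro (rfl | h)
      · exact hm
      · exact h.2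
  have h2 := (h1.map z).prod_eq' (List.pairwise_of_forall fun a b => mulc sq a b)
  rw [List.map_cons, List.prod_cons] at h2
  exact h2

variable {X : Type u} [Group X] [MulDistribMulAction X M]

theorem smul_pz (g : X) (z : I → M) (S : Finset I) : g • pz z S = pz (fun i => g • z i) S := by
  have h := map_list_prod (MulDistribMulAction.toMonoidHom M g) (S.toList.map z)
  rw [List.map_map] at h
  exact h

theorem smul_pz_of_perm (sq : ∀ m : M, m * m = 1) {z : I → M} (hz : Function.Injective z) {S : Finset I} {g : X}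
    (hg : ∀ i ∈ S, ∃ j ∈ S, g • z i = z j) : g • pz z S = pz z S := by
  classical
  rw [smul_pz]
  refine pz_congr sq ?_
  have h1 : Function.Injective fun i => g • z i := fun i j hij => hz (smul_left_cancel g hij)
  rw [List.perm_ext_iff_of_nodup ((Finset.nodup_toList _).map h1) ((Finset.nodup_toList _).map hz)]
  have h2 : S.image (fun i => g • z i) = S.image z := by
    refine Finset.eq_of_subset_of_card_le ?_ ?_
    · intro a ha
      obtain ⟨i, hi, rfl⟩ := Finset.mem_image.1 ha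
      obtain ⟨j, hj, e⟩ := hg i hi
      exact Finset.mem_image.2 ⟨j, hj, e.symm⟩
    · rw [Finset.card_image_of_injective _ hz, Finset.card_image_of_injective _ h1]
  intro a
  have h3 := Finset.ext_iff.1 h2 a
  simp only [Finset.mem_image] at h3
  simpa only [List.mem_map, Finset.mem_toList] using h3

theorem smul_pz_of_fix {z : I → M} {S : Finset I} {g : X} (hg : ∀ i ∈ S, g • z i = z i) : g • pz z S = pz z S := by
  rw [smul_pz]
  unfold pz
  congr 1
  exact List.map_congr_left fun i hi => hg i (Finset.mem_toList.1 hi)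

theorem pz_mem {z : I → M} {S : Finset I} {U : Subgroup M} (h : ∀ i ∈ S, z i ∈ U) : pz z S ∈ U := by
  refine list_prod_mem ?_
  intro a ha
  obtain ⟨i, hi, rfl⟩ := List.mem_map.1 ha
  exact h i (Finset.mem_toList.1 hi)

/-- **The odd orbit argument**: a 2-group... `T` of odd index in `E` fixes `c`, and `E` fixes the coset `c Y`: then `E`
fixes an element of `c Y` -/
theorem exists_fixed [Finite M] (sq : ∀ m : M, m * m = 1) {T E : Subgroup X} (hodd : ¬ 2 ∣ T.index)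
    (hTE : T ≤ E) {c : M} (hc : ∀ t ∈ T, t • c = c) {Y : Subgroup M} (hE : ∀ e ∈ E, e • c * c ∈ Y) :
    ∃ v : M, v * c ∈ Y ∧ ∀ e ∈ E, e • v = v := by
  classical
  have := Fintype.ofFinite M
  let A : Finset M := Finset.univ.filter fun m => ∃ e ∈ E, e • c = m
  have hA : ∀ m, m ∈ A ↔ ∃ e ∈ E, e • c = m := fun m => by simp [A]
  have hinv : ∀ e ∈ E, ∀ m ∈ A, e • m ∈ A := by
    intro e he m hm
    obtain ⟨f, hf, rfl⟩ := (hA m).1 hm
    exact (hA _).2 ⟨e * f, mul_mem he hf, mul_smul e f c⟩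
  have hcard : ¬ 2 ∣ A.card := by
    have h1 := MulAction.index_stabilizer E c
    have h2 : (MulAction.orbit E c).ncard = A.card := by
      have : MulAction.orbit E c = (A : Set M) := by
        ext m
        rw [Finset.mem_coe, hA]
        constructor
        · rintro ⟨e, rfl⟩
          exact ⟨e, e.2, rfl⟩
        · rintro ⟨e, he, rfl⟩
          exact ⟨⟨e, he⟩, rfl⟩
      rw [this, Set.ncard_coe_finset]
    rw [← h2, ← h1]
    intro hdvd
    apply hodd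
    have h3 : T.subgroupOf E ≤ MulAction.stabilizer E c := fun t ht => hc _ ht
    have h4 : (MulAction.stabilizer E c).index ∣ (T.subgroupOf E).index := Subgroup.index_dvd_of_le h3
    have h5 : T.relIndex E ∣ T.index := Subgroup.relIndex_dvd_index_of_le (H := T) (K := E) hTE
    exact (hdvd.trans h4).trans h5
  refine ⟨pz id A, ?_, fun e he => ?_⟩
  · have h1 : ∀ L : List M, (∀ m ∈ L, m * c ∈ Y) → (L.map id).prod * c ^ L.length ∈ Y := by
      intro L
      induction L with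
      | nil => intro _; simp
      | cons a L ih =>
        intro hs
        have h2 := mul_mem (hs a (List.mem_cons_self ..)) (ih fun m hm => hs m (List.mem_cons_of_mem _ hm))
        rw [List.map_cons, List.prod_cons, List.length_cons, pow_succ']
        have e : id a * (List.map id L).prod * (c * c ^ L.length) = a * c * ((List.map id L).prod * c ^ L.length) := by
          have h3 := mulc sq (List.map id L).prod c
          calc id a * (List.map id L).prod * (c * c ^ L.length)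
              = a * ((List.map id L).prod * c) * c ^ L.length := by simp only [id_eq, mul_assoc]
            _ = a * (c * (List.map id L).prod) * c ^ L.length := by rw [h3]
            _ = _ := by simp only [mul_assoc]
        rwa [e]
    have h2 := h1 A.toList (fun m hm => by
      obtain ⟨e, he, rfl⟩ := (hA m).1 (Finset.mem_toList.1 hm)
      exact hE e he)
    rw [Finset.length_toList] at h2
    have h3 : c ^ A.card = c := by
      obtain ⟨n, hn⟩ := Nat.odd_iff.2 (Nat.two_dvd_ne_zero.1 hcard)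
      rw [hn, pow_succ, pow_mul, pow_two, sq, one_pow, one_mul]
    rwa [h3] at h2
  · refine smul_pz_of_perm sq Function.injective_id fun m hm => ⟨e • m, hinv e he m hm, rfl⟩

end prod

/-! ### The input -/

variable {X : Type u} [Group X] {M : Type v} [Group M] [MulDistribMulAction X M] {I : Type w}

variable (X) in
/-- the elements which permute the `z i` -/
def Pz (z : I → M) : Subgroup X where
  carrier := {g | (∀ i, ∃ j, g • z i = z j) ∧ ∀ i, ∃ j, g⁻¹ • z i = z j}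
  one_mem' := ⟨fun i => ⟨i, one_smul _ _⟩, fun i => ⟨i, by rw [inv_one, one_smul]⟩⟩
  mul_mem' := by
    rintro a b ⟨ha, ha'⟩ ⟨hb, hb'⟩
    refine ⟨fun i => ?_, fun i => ?_⟩
    · obtain ⟨j, hj⟩ := hb i
      obtain ⟨k, hk⟩ := ha j
      exact ⟨k, by rw [mul_smul, hj, hk]⟩
    · obtain ⟨j, hj⟩ := ha' i
      obtain ⟨k, hk⟩ := hb' j
      exact ⟨k, by rw [mul_inv_rev, mul_smul, hj, hk]⟩
  inv_mem' := by
    rintro a ⟨ha, ha'⟩
    exact ⟨ha', by rwa [inv_inv]⟩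

/-- `l` acts as a 3-cycle on the line of `z m` and fixes the other `z j` -/
structure Cyc (z : I → M) (m : I) (l : X) : Prop where
  odd : Odd (orderOf l)
  mv : l • z m ≠ z m
  cyc : l • l • z m = z m * l • z m
  fix : ∀ j, j ≠ m → l • z j = z j

/-- a minimal parabolic of type (i) -/
def TyI (T : Subgroup X) (z : I → M) (P : Subgroup X) : Prop :=
  ∃ m : I, ∃ L' ≤ P, P ≤ L' ⊔ T ∧ (∀ l ∈ L', ∀ j, j ≠ m → l • z j = z j) ∧ ∃ l ∈ L', Cyc z m l

/-- **the input** -/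
structure DIn (T B : Subgroup X) (z : I → M) (i₂ : I) (y : M) : Prop where
  sq : ∀ m : M, m * m = 1
  two : IsPGroup 2 T
  syl : ¬ 2 ∣ T.index
  inj : Function.Injective z
  /-- `N_X(T)` permutes the centres -/
  perm : normalizer (T : Set X) ≤ Pz X z
  fix2 : ∀ t ∈ T, t • z i₂ = z i₂
  /-- `y` is the product of the other centres -/
  yfix : ∀ g : X, (∀ j, j ≠ i₂ → g • z j = z j) → g • y = y
  efix : ∀ g ∈ Pz X z, g • (z i₂ * y) = z i₂ * y
  /-- the trichotomy -/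
  tri : ∀ P : Subgroup X, IsMinPar T P →
    P ≤ Pz X z ∨ (∀ p ∈ P, ∀ m : M, (∀ t ∈ T, t • m = m) → p • m = m) ∨ TyI T z P
  BT : B ≤ T
  Bc : B ≤ o2 (MulAction.stabilizer X (z i₂))
  By : B ≤ o2 (MulAction.stabilizer X y)
  Be : B ≤ o2 (MulAction.stabilizer X (z i₂ * y))

/-- **the output** -/
structure Out (T H : Subgroup X) (U₁ : Subgroup M) (x w : M) : Prop where
  xU : x ∈ U₁
  wU : w ∈ U₁
  xT : ∀ t ∈ T, t • x = x
  wT : ∀ t ∈ T, t • w = w
  xH : ∃ g ∈ H, g • x ≠ x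
  wH : ∃ g ∈ H, g • w ≠ w
  /-- some `P ≥ T` fixes `w` and moves `x` -/
  mvf : ∃ P : Subgroup X, T ≤ P ∧ P ≤ H ∧ (∀ p ∈ P, p • w = w) ∧ ∃ p ∈ P, p • x ≠ x
  /-- (f5) -/
  all : ∀ P : Subgroup X, P ≤ H → (IsMinPar T P ∨ P ≤ normalizer (T : Set X)) →
    ∃ u ∈ U₁, (∀ t ∈ T, t • u = u) ∧ (∃ g ∈ H, g • u ≠ u) ∧ ∀ p ∈ P, p • u = u

theorem Cyc.ne {z : I → M} {m : I} {l : X} (h : Cyc z m l) : l • z m ≠ z m := h.mv

/-- the centre of `m` is in `[M, K₀]` -/
theorem Cyc.mem (sq : ∀ m : M, m * m = 1) {z : I → M} {m : I} {l : X} (h : Cyc z m l) {U₁ : Subgroup M}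
    (hl : ∀ v : M, l • v * v ∈ U₁) : z m ∈ U₁ := by
  have h1 := hl (l • z m)
  rw [h.cyc] at h1
  -- `z m * l • z m * l • z m = z m`
  rwa [mul_assoc, sq, mul_one] at h1

/-- `B ≤ O₂(C_X(v)) ∩ H`, `B ≰ O₂(H)` : `H` moves `v` -/
theorem exists_mv {B H : Subgroup X} (hBH : B ≤ H) {v : M} (hB : B ≤ o2 (MulAction.stabilizer X v))
    (hn : ¬ B ≤ o2 H) : ∃ g ∈ H, g • v ≠ v := by
  by_contra hcon
  push Not at hcon
  apply hn
  have h1 : H ≤ MulAction.stabilizer X v := fun g hg => hcon g hg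
  have h2 : o2 (MulAction.stabilizer X v) ⊓ H ≤ o2 H := by
    refine MinSimple.VModule.le_o2 inf_le_right
      ((MinSimple.VModule.o2_isPGroup (MulAction.stabilizer X v)).to_le inf_le_left) ?_
    intro g hg
    rw [mem_normalizer_iff]
    intro a
    have h3 := mem_normalizer_iff.1 (MinSimple.VModule.le_normalizer_o2 _ (h1 hg)) a
    refine ⟨fun ha => ⟨h3.1 ha.1, H.mul_mem (H.mul_mem hg ha.2) (H.inv_mem hg)⟩, fun ha => ⟨h3.2 ha.1, ?_⟩⟩
    have h4 := H.mul_mem (H.mul_mem (H.inv_mem hg) ha.2) hg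
    have e : g⁻¹ * (g * a * g⁻¹) * g = a := by group
    rwa [e] at h4
  exact (le_inf hB hBH).trans h2

/-- elements of odd order of `K₀ T` lie in `K₀` -/
theorem mem_of_odd [Finite X] {T K₀ : Subgroup X} (h2 : IsPGroup 2 T) (hT : T ≤ normalizer (K₀ : Set X)) {l : X}
    (hl : l ∈ K₀ ⊔ T) (ho : Odd (orderOf l)) : l ∈ K₀ := by
  have hN : K₀ ⊔ T ≤ normalizer (K₀ : Set X) := sup_le le_normalizer hT
  have hn : (K₀.subgroupOf (normalizer (K₀ : Set X))).Normal := normal_in_normalizer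
  let f := QuotientGroup.mk' (K₀.subgroupOf (normalizer (K₀ : Set X)))
  have h3 : ∃ n : ℕ, (f ⟨l, hN hl⟩) ^ 2 ^ n = 1 := by
    have h4 : (K₀ ⊔ T).subgroupOf (normalizer (K₀ : Set X)) =
        K₀.subgroupOf (normalizer (K₀ : Set X)) ⊔ T.subgroupOf (normalizer (K₀ : Set X)) :=
      subgroupOf_sup le_normalizer hT
    have h5 : (⟨l, hN hl⟩ : ↥(normalizer (K₀ : Set X))) ∈ (K₀ ⊔ T).subgroupOf (normalizer (K₀ : Set X)) := hl
    rw [h4] at h5
    have h6 : f ⟨l, hN hl⟩ ∈ (T.subgroupOf (normalizer (K₀ : Set X))).map f := by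
      have h7 : f ⟨l, hN hl⟩ ∈ (K₀.subgroupOf (normalizer (K₀ : Set X)) ⊔
          T.subgroupOf (normalizer (K₀ : Set X))).map f := mem_map_of_mem f h5
      rw [Subgroup.map_sup] at h7
      have h8 : (K₀.subgroupOf (normalizer (K₀ : Set X))).map f = ⊥ := by
        rw [Subgroup.map_eq_bot_iff, QuotientGroup.ker_mk']
      rwa [h8, bot_sup_eq] at h7
    obtain ⟨n, hn⟩ := (h2.comap_subtype.map f : IsPGroup 2 ((T.subgroupOf (normalizer (K₀ : Set X))).map f)) ⟨_, h6⟩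
    exact ⟨n, congrArg Subtype.val hn⟩
  obtain ⟨n, hn⟩ := h3
  have h4 : l ^ 2 ^ n ∈ K₀ := by
    rw [← map_pow] at hn
    have h5 : (⟨l, hN hl⟩ ^ 2 ^ n : ↥(normalizer (K₀ : Set X))) ∈ K₀.subgroupOf (normalizer (K₀ : Set X)) :=
      (QuotientGroup.eq_one_iff _).1 hn
    exact h5
  have h6 : (Nat.Coprime (orderOf l) (2 ^ n)) := Nat.Coprime.pow_right n (Nat.coprime_two_right.2 ho)
  obtain ⟨m, hm⟩ := exists_pow_eq_self_of_coprime h6.symm
  rw [← hm]
  exact pow_mem h4 m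

/-- conjugates of 3-cycles -/
theorem Cyc.conj {z : I → M} (hz : Function.Injective z) {m : I} {l : X} (h : Cyc z m l) {g : X} (hg : g ∈ Pz X z)
    {m' : I} (hm : g • z m = z m') : Cyc z m' (g * l * g⁻¹) where
  odd := by
    rw [← MulAut.conj_apply, MulEquiv.orderOf_eq]
    exact h.odd
  mv := by
    rw [← hm, mul_smul, mul_smul, inv_smul_smul]
    exact fun e => h.mv (smul_left_cancel g e)
  cyc := by
    have e : (g * l * g⁻¹) • g • z m = g • l • z m := by rw [mul_smul, mul_smul, inv_smul_smul]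
    rw [← hm, e, mul_smul, mul_smul, inv_smul_smul, h.cyc, smul_mul']
  fix := by
    intro j hj
    obtain ⟨i, hi⟩ := hg.2 j
    rw [mul_smul, mul_smul, hi, h.fix i, ← hi, smul_inv_smul]
    rintro rfl
    apply hj
    apply hz
    rw [← hm, ← hi, smul_inv_smul]

variable [Finite X] [Finite M] [Finite I] {T B : Subgroup X} {z : I → M} {i₂ : I} {y : M}

omit [Finite X] [Finite M] [Finite I] in
/-- `T` permutes the centres -/
theorem DIn.permT (h : DIn T B z i₂ y) {t : X} (ht : t ∈ T) : t ∈ Pz X z := h.perm (le_normalizer ht)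

omit [Finite X] [Finite M] [Finite I] in
/-- `T` fixes `y` -/
theorem DIn.yT (h : DIn T B z i₂ y) {t : X} (ht : t ∈ T) : t • y = y := by
  have h1 := h.efix t (h.permT ht)
  rw [smul_mul', h.fix2 t ht] at h1
  exact mul_left_cancel h1

/-- **the two `T`-fixed vectors** -/
theorem exists_out (h : DIn T B z i₂ y) {H K₀ : Subgroup X} {U₁ : Subgroup M} (hTH : T ≤ H) (hB : ¬ B ≤ o2 H)
    (hKn : H ≤ normalizer (K₀ : Set X)) (hgen : H ≤ K₀ ⊔ T) (hc : ∀ k ∈ K₀, ∀ m : M, k • m * m ∈ U₁) :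
    ∃ x w : M, Out T H U₁ x w := by
  classical
  have := Fintype.ofFinite I
  have hBH : B ≤ H := h.BT.trans hTH
  obtain ⟨gc, hgc, hcm⟩ := exists_mv hBH h.Bc hB
  obtain ⟨gy, hgy, hym⟩ := exists_mv hBH h.By hB
  obtain ⟨ge, hge, hem⟩ := exists_mv hBH h.Be hB
  -- the coset of a `T`-fixed vector mod `U₁`
  have hcos : ∀ v : M, (∀ t ∈ T, t • v = v) → ∃ v₀ : M, v₀ * v ∈ U₁ ∧ ∀ g ∈ H, g • v₀ = v₀ := by
    intro v hv
    refine exists_fixed h.sq h.syl hTH hv fun g hg => ?_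
    -- `H = K₀ T`
    have h1 : g ∈ K₀ ⊔ T := hgen hg
    rw [← SetLike.mem_coe, Subgroup.coe_mul_of_right_le_normalizer_left _ _ (hTH.trans hKn)] at h1
    obtain ⟨k, hk, t, ht, rfl⟩ := Set.mem_mul.1 h1
    have h2 : (k * t) • v = k • v := by rw [mul_smul, hv t ht]
    show (k * t) • v * v ∈ U₁
    rw [h2]
    exact hc k hk v
  -- odd order
  have hodd : ∀ {m : I} {l : X}, l ∈ H → Cyc z m l → z m ∈ U₁ := by
    intro m l hl hcy
    have h1 : l ∈ K₀ := mem_of_odd h.two (hTH.trans hKn) (hgen hl) hcy.odd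
    exact hcy.mem h.sq fun v => hc l h1 v
  have hsqm : ∀ a b : M, a * b = b * a := mulc h.sq
  by_cases hcase : ∃ l ∈ H, Cyc z i₂ l
  · -- CASE 1
    obtain ⟨l, hl, hcy⟩ := hcase
    obtain ⟨y₀, hy₀, hy₀H⟩ := hcos y fun t ht => h.yT ht
    have hly : l • y = y := h.yfix l hcy.fix
    have hwT : ∀ t ∈ T, t • (y₀ * y) = y₀ * y := fun t ht => by
      rw [smul_mul', hy₀H t (hTH ht), h.yT ht]
    have hcU : z i₂ ∈ U₁ := hodd hl hcy
    refine ⟨z i₂, y₀ * y, hcU, hy₀, h.fix2, hwT, ⟨gc, hgc, hcm⟩, ⟨gy, hgy, ?_⟩, ?_, ?_⟩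
    · intro e
      rw [smul_mul', hy₀H gy hgy] at e
      exact hym (mul_left_cancel e)
    · refine ⟨T ⊔ zpowers l, le_sup_left, sup_le hTH (zpowers_le.2 hl), ?_, l,
        mem_sup_right (mem_zpowers l), hcy.mv⟩
      have h1 : T ⊔ zpowers l ≤ MulAction.stabilizer X (y₀ * y) := by
        refine sup_le hwT (zpowers_le.2 ?_)
        show l • (y₀ * y) = y₀ * y
        rw [smul_mul', hy₀H l hl, hly]
      exact fun p hp => h1 hp
    · intro P hPH hP
      -- `e y₀`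
      have hEP : P ≤ Pz X z → ∃ u ∈ U₁, (∀ t ∈ T, t • u = u) ∧ (∃ g ∈ H, g • u ≠ u) ∧ ∀ p ∈ P, p • u = u := by
        intro hPz
        refine ⟨z i₂ * (y₀ * y), mul_mem hcU hy₀, fun t ht => by rw [smul_mul', h.fix2 t ht, hwT t ht],
          ⟨ge, hge, ?_⟩, fun p hp => ?_⟩
        · intro e
          have e2 : z i₂ * (y₀ * y) = y₀ * (z i₂ * y) := by
            rw [← mul_assoc, hsqm (z i₂) y₀, mul_assoc]
          rw [e2, smul_mul', hy₀H ge hge] at e
          exact hem (mul_left_cancel e)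
        · have e2 : z i₂ * (y₀ * y) = y₀ * (z i₂ * y) := by
            rw [← mul_assoc, hsqm (z i₂) y₀, mul_assoc]
          rw [e2, smul_mul', hy₀H p (hPH hp), h.efix p (hPz hp)]
      rcases hP with hP | hP
      · rcases h.tri P hP with h1 | h1 | ⟨m, L', hL', hPL, hfix, l', hl', hcy'⟩
        · exact hEP h1
        · exact ⟨z i₂, hcU, h.fix2, ⟨gc, hgc, hcm⟩, fun p hp => h1 p hp _ h.fix2⟩
        · by_cases hm : m = i₂
          · subst hm
            refine ⟨y₀ * y, hy₀, hwT, ⟨gy, hgy, ?_⟩, ?_⟩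
            · intro e
              rw [smul_mul', hy₀H gy hgy] at e
              exact hym (mul_left_cancel e)
            · have h2 : P ≤ MulAction.stabilizer X (y₀ * y) := by
                refine hPL.trans (sup_le (fun a ha => ?_) hwT)
                show a • (y₀ * y) = y₀ * y
                rw [smul_mul', hy₀H a (hPH (hL' ha)), h.yfix a (hfix a ha)]
              exact fun p hp => h2 hp
          · refine ⟨z i₂, hcU, h.fix2, ⟨gc, hgc, hcm⟩, ?_⟩
            have h2 : P ≤ MulAction.stabilizer X (z i₂) := by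
              refine hPL.trans (sup_le (fun a ha => ?_) h.fix2)
              exact hfix a ha i₂ (fun e => hm e.symm)
            exact fun p hp => h2 hp
      · exact hEP (hP.trans h.perm)
  · -- CASE 2
    push Not at hcase
    -- some 3-cycle in `H`
    have hex : ∃ m : I, ∃ l ∈ H, Cyc z m l := by
      by_contra hno
      push Not at hno
      have h1 : H ≤ MulAction.stabilizer X (z i₂ * y) := by
        refine le_of_forall hTH ?_ fun P hP hPH => ?_
        · exact fun g hg => h.efix g (h.perm hg.2)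
        · rcases h.tri P hP with h1 | h1 | ⟨m, L', hL', hPL, hfix, l', hl', hcy'⟩
          · exact fun g hg => h.efix g (h1 hg)
          · refine fun g hg => h1 g hg _ fun t ht => ?_
            rw [smul_mul', h.fix2 t ht, h.yT ht]
          · exact absurd hcy' (hno m l' (hPH (hL' hl')))
      exact hem (h1 hge)
    obtain ⟨m, l, hl, hcy⟩ := hex
    have hm2 : m ≠ i₂ := by
      rintro rfl
      exact hcase l hl hcy
    -- the orbit of `m`
    let O : Finset I := Finset.univ.filter fun i => ∃ g ∈ H ⊓ Pz X z, g • z m = z i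
    have hO : ∀ i, i ∈ O ↔ ∃ g ∈ H ⊓ Pz X z, g • z m = z i := fun i => by simp [O]
    have hmO : m ∈ O := (hO m).2 ⟨1, one_mem _, one_smul _ _⟩
    have hOP : ∀ g ∈ H ⊓ Pz X z, g • pz z O = pz z O := by
      intro g hg
      refine smul_pz_of_perm h.sq h.inj fun i hi => ?_
      obtain ⟨a, ha, e⟩ := (hO i).1 hi
      obtain ⟨j, hj⟩ := hg.2.1 i
      refine ⟨j, (hO j).2 ⟨g * a, mul_mem hg ha, ?_⟩, hj⟩
      rw [mul_smul, e, hj]
    have hOU : pz z O ∈ U₁ := by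
      refine pz_mem fun i hi => ?_
      obtain ⟨a, ha, e⟩ := (hO i).1 hi
      exact hodd (mul_mem (mul_mem ha.1 hl) (inv_mem ha.1)) (hcy.conj h.inj ha.2 e)
    have hOT : ∀ t ∈ T, t • pz z O = pz z O := fun t ht => hOP t ⟨hTH ht, h.permT ht⟩
    have hlO : l • pz z O ≠ pz z O := by
      intro e
      rw [pz_erase h.sq z hmO, smul_mul', smul_pz_of_fix (g := l) (S := O.erase m)
        (fun i hi => hcy.fix i (Finset.ne_of_mem_erase hi))] at e
      exact hcy.mv (mul_right_cancel e)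
    obtain ⟨c₀, hc₀, hc₀H⟩ := hcos (z i₂) h.fix2
    have hxT : ∀ t ∈ T, t • (c₀ * z i₂) = c₀ * z i₂ := fun t ht => by
      rw [smul_mul', hc₀H t (hTH ht), h.fix2 t ht]
    have hxm : gc • (c₀ * z i₂) ≠ c₀ * z i₂ := by
      intro e
      rw [smul_mul', hc₀H gc hgc] at e
      exact hcm (mul_left_cancel e)
    refine ⟨pz z O, c₀ * z i₂, hOU, hc₀, hOT, hxT, ⟨l, hl, hlO⟩, ⟨gc, hgc, hxm⟩, ?_, ?_⟩
    · refine ⟨T ⊔ zpowers l, le_sup_left, sup_le hTH (zpowers_le.2 hl), ?_, l,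
        mem_sup_right (mem_zpowers l), hlO⟩
      have h1 : T ⊔ zpowers l ≤ MulAction.stabilizer X (c₀ * z i₂) := by
        refine sup_le hxT (zpowers_le.2 ?_)
        show l • (c₀ * z i₂) = c₀ * z i₂
        rw [smul_mul', hc₀H l hl, hcy.fix i₂ hm2.symm]
      exact fun p hp => h1 hp
    · intro P hPH hP
      have hEP : P ≤ Pz X z → ∃ u ∈ U₁, (∀ t ∈ T, t • u = u) ∧ (∃ g ∈ H, g • u ≠ u) ∧ ∀ p ∈ P, p • u = u :=
        fun hPz => ⟨pz z O, hOU, hOT, ⟨l, hl, hlO⟩, fun p hp => hOP p ⟨hPH hp, hPz hp⟩⟩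
      rcases hP with hP | hP
      · rcases h.tri P hP with h1 | h1 | ⟨m', L', hL', hPL, hfix, l', hl', hcy'⟩
        · exact hEP h1
        · exact ⟨pz z O, hOU, hOT, ⟨l, hl, hlO⟩, fun p hp => h1 p hp _ hOT⟩
        · have hm' : m' ≠ i₂ := by
            rintro rfl
            exact hcase l' (hPH (hL' hl')) hcy'
          refine ⟨c₀ * z i₂, hc₀, hxT, ⟨gc, hgc, hxm⟩, ?_⟩
          have h2 : P ≤ MulAction.stabilizer X (c₀ * z i₂) := by
            refine hPL.trans (sup_le (fun a ha => ?_) hxT)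
            show a • (c₀ * z i₂) = c₀ * z i₂
            rw [smul_mul', hc₀H a (hPH (hL' ha)), hfix a ha i₂ hm'.symm]
          exact fun p hp => h2 hp
      · exact hEP (hP.trans h.perm)

end Cfsg.Agent.Omega.NO3S.EMany.LowD

end

section


/-!
# NO-3S, several natural factors, case (E), all `q`: step (4) of bb #20764 (helper834), over `(B, Z_J)`

`i`, `j` partners (`Pa`), `T = N_S(Z i) = N_S(Z j)`, `b ∈ Z i`, `c ∈ Z j` fixed by `T`, `M = C(b) ⊓ C(c)`,
`M ≤ H ≤ C(b)`, `L j ≤ H`; `R ≤ H` a normal subgroup of `H` with a 2-element moving `W j`.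
Then `C(b) ⊓ N(W j) ≤ R ⊔ M`.

* `BlkQ`, `DichQ` : the input: every minimal parabolic `Y` over `T` in `C(b)` normalises `Z_J`, or `O²(Y)` centralises
  `Ω₁Z(O₂(Y))`, or `Y` is generated by `T` and a block;
* `syl_b` : `T` is a Sylow 2-subgroup of `C(b)`;  `axb` : the `A × B`-lemma inside `G`;
* `four`, `four_sup`, `four_mul` : **(4)**.
-/

set_option autoImplicit false
set_option linter.unusedVariables false
set_option linter.unusedSectionVars false

namespace Cfsg.Agent.Omega.NO3S.EMany.FourQ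

open Subgroup Cfsg Cfsg.Agent.ZN.ChoiceBase
open Cfsg.Agent.ZN (zc zl o2)
open Cfsg.Agent.ZN.ChoiceSit (Syl exists_syl syl_conj isPGroup_o2 le_o2 le_normalizer_o2 o2_le_syl syl_not_dvd)
open Cfsg.Agent.MinSimple.MinParabolic (IsMinPar)
open Cfsg.Agent.MinSimple.VModule (oddGen)
open Cfsg.Agent.Omega.OM.UniPlus (NB)
open Cfsg.Agent.Omega.NO3S.EThree.Frame
open Cfsg.Agent.Omega.NO3S.EMany.AltQ

universe u

variable {G : Type u} [Group G]

/-- `L'` is a block at `m`: it centralises `ZJ ⊓ C m`, normalises `W m`, and does not normalise `Z m`. -/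
structure BlkQ {ι : Type} (ZJ : Subgroup G) (W Z C : ι → Subgroup G) (m : ι) (L' : Subgroup G) : Prop where
  cen : ∀ z ∈ ZJ, z ∈ C m → ∀ l' ∈ L', l' * z = z * l'
  nW : L' ≤ normalizer (W m : Set G)
  nZ : ¬ L' ≤ normalizer (Z m : Set G)

/-- Minimal parabolics over `T` in `C(b)`. -/
def DichQ {ι : Type} (ZJ : Subgroup G) (W Z C : ι → Subgroup G) (T : Subgroup G) (b : G) : Prop :=
  ∀ Y : Subgroup G, IsMinPar T Y → Y ≤ centralizer ({b} : Set G) →
    Y ≤ normalizer (ZJ : Set G) ∨ oddGen Y ≤ centralizer (zc (o2 Y) : Set G) ∨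
      ∃ m L', L' ≤ Y ∧ Y ≤ L' ⊔ T ∧ BlkQ ZJ W Z C m L'

/-- **The `A × B`-lemma**: `W` elementary abelian, `O` a 2-group acting on `W`, `r` of odd order commuting with `O` on
`W` and centralising `C_W(O)`. -/
theorem axb [Finite G] {W O : Subgroup G} (sq : ∀ w ∈ W, w ^ 2 = 1) (hO : IsPGroup 2 O)
    (hOW : O ≤ normalizer (W : Set G)) {r : G} (hr : r ∈ normalizer (W : Set G)) (hodd : Odd (orderOf r))
    (hcom : ∀ u ∈ O, ∀ w ∈ W, u * (r * w * r⁻¹) * u⁻¹ = r * (u * w * u⁻¹) * r⁻¹)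
    (hc : ∀ w ∈ W, (∀ u ∈ O, u * w * u⁻¹ = w) → r * w * r⁻¹ = w) {w : G} (hw : w ∈ W) : r * w * r⁻¹ = w := by
  let f := W.normalizerMonoidHom
  let e : MulAut W := f ⟨r, hr⟩
  have hf : ∀ (x : G) (hx : x ∈ normalizer (W : Set G)) (m : W), ((f ⟨x, hx⟩ • m : W) : G) = x * m * x⁻¹ :=
    fun _ _ _ => rfl
  have h1 := ML.MinFrame.axb (H := MulAut W) (M := W)
    (fun m => Subtype.ext (by have := sq m m.2; rw [pow_two] at this; exact this))
    (B := (O.subgroupOf (normalizer (W : Set G))).map f)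
    ((hO.comap_of_injective _ (normalizer (W : Set G)).subtype_injective).map _) (e := e) (n := orderOf r) hodd
    (by rw [← map_pow]
        have : (⟨r, hr⟩ : normalizer (W : Set G)) ^ orderOf r = 1 := Subtype.ext (pow_orderOf_eq_one r)
        rw [this, map_one])
    (by
      rintro _ ⟨⟨x, hx⟩, hxO, rfl⟩
      have hxO : x ∈ O := hxO
      ext m
      show ((f ⟨x, hx⟩ • e • m : W) : G) = ((e • f ⟨x, hx⟩ • m : W) : G)
      rw [hf, hf r hr, hf r hr, hf]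
      exact hcom x hxO m m.2)
    (by
      intro m hm
      apply Subtype.ext
      refine hc m m.2 fun x hx => ?_
      have h2 := hm (f ⟨x, hOW hx⟩) ⟨⟨x, hOW hx⟩, hx, rfl⟩
      exact congrArg Subtype.val h2)
    ⟨w, hw⟩
  exact congrArg Subtype.val h1

section bg

variable [Finite G] {S : Sylow 2 G} {P : Subgroup G} {ι : Type} {B ZJ : Subgroup G}
  {L W Z C : ι → Subgroup G} {q : ℕ} (h : Bg S P B ZJ L W Z C q)
include h

theorem nb (i : ι) : NB B (L i) (W i) (Z i) q := ⟨h.fr.blk i, h.fr.cardZ i⟩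

theorem rt (i : ι) : Rt B (W i) (Z i) := fun v hv hvZ z hz => by
  obtain ⟨b, hb, -, e⟩ := h.root i v hv hvZ z hz
  exact ⟨b, hb, e⟩

/-- `T` is a Sylow 2-subgroup of `C_G(b)`. -/
theorem syl_b [Finite ι] {i : ι} {b : G} (hb : b ∈ Z i) (hb1 : b ≠ 1)
    (hbT : (S : Subgroup G) ⊓ normalizer (Z i : Set G) ≤ centralizer ({b} : Set G)) :
    Syl ((S : Subgroup G) ⊓ normalizer (Z i : Set G)) (centralizer ({b} : Set G)) := by
  refine ⟨hbT, S.isPGroup'.to_le inf_le_left, fun R hR h2 hle => ?_⟩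
  refine (h.syl i).2.2 R (fun x hx => ?_) h2 hle
  have hxB := h.le_norm_B h2 ((h.bau_le_T i).trans hle) hx
  obtain ⟨m, hm, -⟩ := (h.norm hxB).2 i
  have h1 : b ∈ Z m ⊓ Z i := by
    refine mem_inf.2 ⟨?_, hb⟩
    rw [← hm]
    refine ⟨b, hb, ?_⟩
    have h3 := mem_centralizer_singleton_iff.1 (hR hx)
    show x * b * x⁻¹ = b
    rw [h3]; group
  have h2' : m = i := by
    by_contra hne
    rw [h.Z_disj hne, mem_bot] at h1
    exact hb1 h1
  rw [mem_normalizer_iff_cj, hm, h2']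

/-- Frattini: `N(Z_J) = C(Z_J) N(B)`. -/
theorem exists_frattini {y : G} (hy : y ∈ normalizer (ZJ : Set G)) :
    ∃ d ∈ centralizer (ZJ : Set G), d * y ∈ normalizer (B : Set G) := by
  have h1 : cj y (centralizer (ZJ : Set G)) = centralizer (ZJ : Set G) := by
    rw [cj_centralizer, cj_eq_of_mem_normalizer hy]
  have h2 : Syl (cj y B) (centralizer (ZJ : Set G)) := by
    refine ⟨?_, isPGroup_cj y h.syl_B.2.1, fun Q hQ hQ2 hle => ?_⟩
    · rw [← h1]
      exact cj_mono y h.syl_B.1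
    · symm
      refine Subgroup.eq_of_le_of_card_ge hle ?_
      have h3 := h.syl_B.2.2 (cj y⁻¹ Q) (by
        rw [cj_le_iff, inv_inv, h1]
        exact hQ) (isPGroup_cj _ hQ2) (by
        rw [← cj_inv_cj y B]
        exact cj_mono _ hle)
      rw [← card_cj y⁻¹ Q, h3, card_cj]
  obtain ⟨d, hd, e⟩ := syl_conj h2 h.syl_B
  refine ⟨d, hd, ?_⟩
  rw [mem_normalizer_iff_cj, ← cj_cj, e]

/-- `C_G(Z_J)` fixes `z ∈ Z i`. -/
theorem cent_le {i : ι} {z : G} (hz : z ∈ Z i) : centralizer (ZJ : Set G) ≤ centralizer ({z} : Set G) :=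
  centralizer_le (Set.singleton_subset_iff.2 (h.fr.Z_le i hz))

/-- `L j` centralises `Z i`, `i ≠ j`. -/
theorem L_le {i j : ι} (hij : j ≠ i) {z : G} (hz : z ∈ Z i) : L j ≤ centralizer ({z} : Set G) := fun l hl => by
  rw [mem_centralizer_singleton_iff]
  exact h.fr.LC j l hl z (h.fr.Z_le i hz) (h.fr.WjC j i hij ((h.fr.blk i).ZV hz))

/-- `n ∈ N_G(B) ⊓ C(b)` moving `Z j`: then `C(b) ⊓ N(W j)` lies in every subgroup over `M` and `n`. -/
theorem exch [Finite ι] {i j : ι} (hij : i ≠ j) {b c : G} (hb : b ∈ Z i) (hb1 : b ≠ 1) (hc : c ∈ Z j) (hc1 : c ≠ 1)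
    {n : G} (hB : n ∈ normalizer (B : Set G)) (hnb : n ∈ centralizer ({b} : Set G)) (hnj : n ∉ normalizer (Z j : Set G))
    {X : Subgroup G} (hM : centralizer ({b} : Set G) ⊓ centralizer ({c} : Set G) ≤ X) (hn : n ∈ X) :
    centralizer ({b} : Set G) ⊓ normalizer (W j : Set G) ≤ X := by
  -- `n` normalises `Z i` and maps `Z j` to `Z m`
  obtain ⟨m', hm', -⟩ := (h.norm hB).2 i
  have hi' : m' = i := by
    by_contra hne
    apply hb1
    have h1 : b ∈ Z m' ⊓ Z i := by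
      refine mem_inf.2 ⟨?_, hb⟩
      rw [← hm']
      refine ⟨b, hb, ?_⟩
      have h3 := mem_centralizer_singleton_iff.1 hnb
      show n * b * n⁻¹ = b
      rw [h3]; group
    rwa [h.Z_disj hne, mem_bot] at h1
  obtain ⟨m, hm, -⟩ := (h.norm hB).2 j
  have hmj : m ≠ j := by
    rintro rfl
    exact hnj (mem_normalizer_iff_cj.2 hm)
  have hmi : m ≠ i := by
    rintro rfl
    have h1 : cj n (Z m) = cj n (Z j) := by rw [hm]; rw [hi'] at hm'; exact hm'
    have h2 := congrArg (cj n⁻¹) h1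
    rw [cj_inv_cj, cj_inv_cj] at h2
    exact hij (h.Z_inj h2)
  have hWm : cj n (W j) = W m := h.cj_W hB hm
  rintro l ⟨hlb, hlW⟩
  -- `c^{nl}` and `c^n` lie in `W m`
  have h1 : n * c * n⁻¹ ∈ Z m := by rw [← hm]; exact ⟨c, hc, rfl⟩
  have h1' : n * c * n⁻¹ ≠ 1 := fun e => hc1 (conj_eq_one_iff.1 e)
  have hlc : l * c * l⁻¹ ∈ W j := (mem_normalizer_iff.1 hlW c).1 ((h.fr.blk j).ZV hc)
  have h2 : n * (l * c * l⁻¹) * n⁻¹ ∈ W m := by rw [← hWm]; exact ⟨_, hlc, rfl⟩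
  have h2' : n * (l * c * l⁻¹) * n⁻¹ ≠ 1 := fun e => hc1 (conj_eq_one_iff.1 (conj_eq_one_iff.1 e))
  obtain ⟨k, hk, e⟩ := trL (nb h m) (rt h m) h2 h2' h1 h1'
  have hkb : k ∈ centralizer ({b} : Set G) := L_le h hmi hb hk
  have hkc : k ∈ centralizer ({c} : Set G) := L_le h hmj hc hk
  -- `y = l⁻¹ n⁻¹ k n ∈ M`
  have hy : l⁻¹ * n⁻¹ * k * n ∈ X := by
    refine hM (mem_inf.2 ⟨mul_mem (mul_mem (mul_mem (inv_mem hlb) (inv_mem hnb)) hkb) hnb, ?_⟩)
    rw [mem_centralizer_singleton_iff]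
    have e2 : l⁻¹ * n⁻¹ * k * n * c * (l⁻¹ * n⁻¹ * k * n)⁻¹ = c := by
      calc l⁻¹ * n⁻¹ * k * n * c * (l⁻¹ * n⁻¹ * k * n)⁻¹ = l⁻¹ * (n⁻¹ * (k * (n * c * n⁻¹) * k⁻¹) * n) * l := by group
        _ = c := by rw [e]; group
    exact mul_inv_eq_iff_eq_mul.1 e2
  have e3 : l = n⁻¹ * k * n * (l⁻¹ * n⁻¹ * k * n)⁻¹ := by group
  rw [e3]
  exact mul_mem (mul_mem (mul_mem (inv_mem hn) (hM (mem_inf.2 ⟨hkb, hkc⟩))) hn) (inv_mem hy)

variable {i j : ι} {s : G} (p : Pa (S : Subgroup G) W i j s)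
include p

/-- **(4).** -/
theorem four [Finite ι] {b c : G} (hb : b ∈ Z i) (hb1 : b ≠ 1) (hc : c ∈ Z j) (hc1 : c ≠ 1)
    (hbT : (S : Subgroup G) ⊓ normalizer (Z i : Set G) ≤ centralizer ({b} : Set G))
    (hcT : (S : Subgroup G) ⊓ normalizer (Z i : Set G) ≤ centralizer ({c} : Set G))
    (hD : DichQ ZJ W Z C ((S : Subgroup G) ⊓ normalizer (Z i : Set G)) b) {H R : Subgroup G}
    (hMH : centralizer ({b} : Set G) ⊓ centralizer ({c} : Set G) ≤ H) (hLH : L j ≤ H)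
    (hHb : H ≤ centralizer ({b} : Set G)) (hRH : R ≤ H) (hHR : H ≤ normalizer (R : Set G))
    (hmv : ∃ a ∈ R, (∃ n : ℕ, a ^ 2 ^ n = 1) ∧ ∃ w ∈ W j, a * w ≠ w * a) :
    centralizer ({b} : Set G) ⊓ normalizer (W j : Set G) ≤
      R ⊔ (centralizer ({b} : Set G) ⊓ centralizer ({c} : Set G)) := by
  have : Fact (Nat.Prime 2) := ⟨Nat.prime_two⟩
  set T : Subgroup G := (S : Subgroup G) ⊓ normalizer (Z i : Set G) with hT
  set M : Subgroup G := centralizer ({b} : Set G) ⊓ centralizer ({c} : Set G) with hM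
  have hT2 : IsPGroup 2 T := S.isPGroup'.to_le inf_le_left
  have hBT : B ≤ T := h.bau_le_T i
  have hTM : T ≤ M := le_inf hbT hcT
  have hTH : T ≤ H := hTM.trans hMH
  have hTj : T ≤ normalizer (Z j : Set G) := (h.T_eq p).ge.trans inf_le_right
  have hTW : T ≤ normalizer (W j : Set G) := by
    have h1 := h.inf_normalizer j
    rw [h.T_eq p] at h1
    rw [hT, h1]
    exact inf_le_right
  -- `R₀ = R ⊓ N(W j)`
  have hRL : ∀ l ∈ L j, ∀ r ∈ R ⊓ normalizer (W j : Set G), l * r * l⁻¹ ∈ R ⊓ normalizer (W j : Set G) := by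
    intro l hl r hr
    have hlW : l ∈ normalizer (W j : Set G) :=
      ML.MinFrame.le_normalizer_of (R := L j) (fun g hg x hx => (nb h j).nV g hg x hx) hl
    exact mem_inf.2 ⟨(mem_normalizer_iff.1 (hHR (hLH hl)) r).1 hr.1, mul_mem (mul_mem hlW hr.2) (inv_mem hlW)⟩
  have hRV : ∀ r ∈ R ⊓ normalizer (W j : Set G), ∀ v ∈ W j, r * v * r⁻¹ ∈ W j :=
    fun r hr v hv => (mem_normalizer_iff.1 hr.2 v).1 hv
  rcases alt (nb h j) hRL hRV (rt h j) with htr | ⟨hRZ, h2el⟩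
  · -- the transitive case
    rintro l ⟨hlb, hlW⟩
    have hlc : l * c * l⁻¹ ∈ W j := (mem_normalizer_iff.1 hlW c).1 ((h.fr.blk j).ZV hc)
    obtain ⟨r, hr, e⟩ := htr c hc hc1 _ hlc fun e => hc1 (conj_eq_one_iff.1 e)
    have h1 : r⁻¹ * l ∈ M := by
      refine mem_inf.2 ⟨mul_mem (inv_mem (hHb (hRH hr.1))) hlb, ?_⟩
      rw [mem_centralizer_singleton_iff]
      have e2 : r⁻¹ * l * c * (r⁻¹ * l)⁻¹ = c := by
        calc r⁻¹ * l * c * (r⁻¹ * l)⁻¹ = r⁻¹ * (l * c * l⁻¹) * r := by group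
          _ = c := by rw [← e]; group
      exact mul_inv_eq_iff_eq_mul.1 e2
    have e3 : l = r * (r⁻¹ * l) := by group
    rw [e3]
    exact mul_mem (mem_sup_left hr.1) (mem_sup_right h1)
  by_contra hcon
  -- elements of `N(Z_J)`
  have key : ∀ x ∈ R ⊔ T, x ∈ normalizer (ZJ : Set G) → x ∈ normalizer (Z j : Set G) := by
    intro x hx hxJ
    by_contra hxj
    have hxb : x ∈ centralizer ({b} : Set G) := (sup_le (hRH.trans hHb) hbT) hx
    obtain ⟨d, hd, hdx⟩ := exists_frattini h hxJ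
    have hdb := cent_le h hb hd
    have hdc := cent_le h hc hd
    refine hcon (exch h p.ne hb hb1 hc hc1 hdx (mul_mem hdb hxb) (fun hcc => ?_) le_sup_right
      (mul_mem (mem_sup_right (mem_inf.2 ⟨hdb, hdc⟩)) (sup_le_sup_left hTM R hx)))
    apply hxj
    have hdj : d ∈ normalizer (Z j : Set G) :=
      centralizer_le_normalizer _ (centralizer_le (h.fr.Z_le j) hd)
    have h5 := mul_mem (inv_mem hdj) hcc
    rwa [inv_mul_cancel_left] at h5
  -- `T` is Sylow in `C(b)`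
  have hsyl : Syl T (centralizer ({b} : Set G)) := syl_b h hb hb1 hbT
  have hsyl' : ∀ X : Subgroup G, T ≤ X → X ≤ centralizer ({b} : Set G) → Syl T X := fun X h1 h2 =>
    ⟨h1, hT2, fun Q hQ h3 hle => hsyl.2.2 Q (hQ.trans h2) h3 hle⟩
  -- `W j ≤ Ω₁Z(O₂(H))`
  have hsq : ∀ w ∈ W j, w ^ 2 = 1 := fun w hw => h.fr.Vsq (h.fr.WV j hw)
  have hWz : W j ≤ zc (o2 H) := by
    have hcz : c ∈ zc T := mem_zc.2 ⟨hBT ((h.fr.blk j).VB ((h.fr.blk j).ZV hc)), hsq c ((h.fr.blk j).ZV hc),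
      fun x hx => mem_centralizer_singleton_iff.1 (hcT hx)⟩
    have hb2 : b ^ 2 = 1 := h.fr.Vsq (h.fr.ZV i hb)
    have hch : H ⊓ centralizer (o2 H : Set G) ≤ o2 H :=
      MinSimple.Basic.char2_of_le (MinSimple.Basic.char2_centralizer h.hyp.ctx.char2 hb2 hb1)
        ((o2_le_syl hsyl).trans hTH) hHb
    have h1 := MinSimple.VModule.zl_le_zc hTH hT2 (syl_not_dvd (hsyl' H hTH hHb)) hch
    have h2 : c ∈ zl T H := MinSimple.VModule.zc_le_zl T H hcz
    refine le_trans (fun w hw => ?_) h1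
    by_cases hw1 : w = 1
    · rw [hw1]; exact one_mem _
    obtain ⟨l, hl, rfl⟩ := trL (nb h j) (rt h j) hw hw1 hc hc1
    exact (mem_normalizer_iff.1 (MinSimple.VModule.le_normalizer_zl T H (hLH hl)) c).1 h2
  -- `R` normalises `Z j`
  have hRj : R ≤ normalizer (Z j : Set G) := by
    refine le_trans (le_sup_left : R ≤ R ⊔ T) ?_
    refine MinSimple.MinParabolic.le_of_forall le_sup_right ?_ fun Y hY hYX => ?_
    · rintro n ⟨hn, hnT⟩
      refine key n hn (h.norm_ZJ ?_)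
      rw [mem_normalizer_iff_cj]
      refine h.wc T hT2 hBT n ?_
      rw [← mem_normalizer_iff_cj.1 hnT]
      exact cj_mono n hBT
    · have hYb : Y ≤ centralizer ({b} : Set G) := hYX.trans (sup_le (hRH.trans hHb) hbT)
      have hYH : Y ≤ H := hYX.trans (sup_le hRH hTH)
      have hYR : Y ≤ normalizer (R : Set G) := hYH.trans hHR
      have hRTn : R ⊔ T ≤ normalizer (R : Set G) := (sup_le hRH hTH).trans hHR
      rcases hD Y hY hYb with h1 | h1 | ⟨m, L', h1, h2, h3⟩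
      · exact fun y hy => key y (hYX hy) (h1 hy)
      · -- `O²(Y)` centralises `Ω₁Z(O₂(Y))`
        have hsylY : Syl T Y := hsyl' Y hY.le hYb
        set O : Subgroup G := o2 Y with hO
        have hO2 : IsPGroup 2 O := isPGroup_o2 Y
        have hOT : O ≤ T := o2_le_syl hsylY
        have hYO : Y ≤ normalizer (O : Set G) := le_normalizer_o2 Y
        have hoH : o2 H ≤ O := le_o2 (isPGroup_o2 H) ((o2_le_syl (hsyl' H hTH hHb)).trans hY.le)
          (hYH.trans (le_normalizer_o2 H))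
        have hYz : Y ≤ normalizer (zc (o2 H) : Set G) :=
          (hYH.trans (le_normalizer_o2 H)).trans (MinSimple.VModule.normalizer_le_normalizer_zc _)
        -- `U = ⟨(W j)^Y⟩`
        set U : Subgroup G := ⨆ y : Y, cj (y : G) (W j) with hU
        have hUz : U ≤ zc (o2 H) := iSup_le fun y => by
          have h4 := cj_mono (y : G) hWz
          rwa [cj_eq_of_mem_normalizer (hYz y.2)] at h4
        have hWU : W j ≤ U := by
          have h4 := le_iSup (fun y : Y => cj (y : G) (W j)) 1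
          rwa [OneMemClass.coe_one, cj_one] at h4
        have hYU : Y ≤ normalizer (U : Set G) := by
          refine ML.MinFrame.le_normalizer_of fun y hy x hx => ?_
          have h4 : cj y U ≤ U := by
            have h5 : cj y U = ⨆ x : Y, cj y (cj (x : G) (W j)) := Subgroup.map_iSup _ _
            rw [h5]
            refine iSup_le fun x => ?_
            rw [cj_cj]
            exact le_iSup (fun z : Y => cj (z : G) (W j)) (⟨y, hy⟩ * x)
          exact h4 ⟨x, hx, rfl⟩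
        have hUO : U ≤ O := (hUz.trans (MinSimple.VModule.zc_le _)).trans hoH
        have hUsq : ∀ w ∈ U, w ^ 2 = 1 := fun w hw => (mem_zc.1 (hUz hw)).2.1
        -- `O ⊓ R` centralises `U`
        have hORU : ∀ g ∈ O, g ∈ R → ∀ w ∈ U, g * w * g⁻¹ = w := by
          intro g hgO hgR
          have h4 : U ≤ centralizer ({g} : Set G) := by
            refine iSup_le fun y => ?_
            rintro _ ⟨w, hw, rfl⟩
            have hy1 : (y : G)⁻¹ * g * y ∈ O := (mem_normalizer_iff''.1 (hYO y.2) g).1 hgO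
            have hy2 : (y : G)⁻¹ * g * y ∈ R := (mem_normalizer_iff''.1 (hYR y.2) g).1 hgR
            obtain ⟨n, hn⟩ := hT2 ⟨_, hOT hy1⟩
            have h5 := h2el _ (mem_inf.2 ⟨hy2, hTW (hOT hy1)⟩) n (congrArg Subtype.val hn) w hw
            rw [mem_centralizer_singleton_iff]
            show (y : G) * w * (y : G)⁻¹ * g = g * ((y : G) * w * (y : G)⁻¹)
            calc (y : G) * w * (y : G)⁻¹ * g = y * w * ((y : G)⁻¹ * g * y) * (y : G)⁻¹ := by group
              _ = y * ((y : G)⁻¹ * g * y * w * ((y : G)⁻¹ * g * y)⁻¹) * ((y : G)⁻¹ * g * y) * (y : G)⁻¹ := by rw [h5]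
              _ = g * ((y : G) * w * (y : G)⁻¹) := by group
          intro w hw
          have h5 := mem_centralizer_singleton_iff.1 (h4 hw)
          rw [← h5]; group
        have hodd : oddGen Y ≤ centralizer (W j : Set G) := by
          rw [MinSimple.VModule.oddGen_def, closure_le]
          rintro r ⟨hrY, hro⟩
          have hrR : r ∈ R := MinSimple.VModule.oddGen_le_of_sup hRTn le_rfl le_sup_right le_sup_left hT2
            (MinSimple.VModule.oddGen_mono hYX (MinSimple.VModule.mem_oddGen hrY hro))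
          have hrc := h1 (MinSimple.VModule.mem_oddGen hrY hro)
          refine mem_centralizer_iff.2 fun w hw => ?_
          have h5 : r * w * r⁻¹ = w := by
            refine axb hUsq hO2 (fun u hu => hYU (MinSimple.VModule.o2_le Y hu)) (hYU hrY) hro (fun u hu w hw => ?_)
              (fun w hw hwf => ?_) (hWU hw)
            · -- `[u, r] ∈ O ⊓ R`
              have hg1 : r⁻¹ * u * r * u⁻¹ ∈ O :=
                mul_mem ((mem_normalizer_iff''.1 (hYO hrY) u).1 hu) (inv_mem hu)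
              have hg2 : r⁻¹ * u * r * u⁻¹ ∈ R := by
                have h6 := (mem_normalizer_iff.1 (hYR (MinSimple.VModule.o2_le Y hu)) r).1 hrR
                have e : r⁻¹ * u * r * u⁻¹ = r⁻¹ * (u * r * u⁻¹) := by group
                rw [e]
                exact mul_mem (inv_mem hrR) h6
              have hw' : u * w * u⁻¹ ∈ U := (mem_normalizer_iff.1 (hYU (MinSimple.VModule.o2_le Y hu)) w).1 hw
              have h6 := hORU _ hg1 hg2 _ hw'
              calc u * (r * w * r⁻¹) * u⁻¹ = r * ((r⁻¹ * u * r * u⁻¹) * (u * w * u⁻¹) * (r⁻¹ * u * r * u⁻¹)⁻¹) * r⁻¹ := by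
                    group
                _ = r * (u * w * u⁻¹) * r⁻¹ := by rw [h6]
            · have h6 : w ∈ zc O := mem_zc.2 ⟨hUO hw, hUsq w hw, fun u hu => mul_inv_eq_iff_eq_mul.1 (hwf u hu)⟩
              have h7 := mem_centralizer_iff.1 hrc w h6
              rw [← h7]; group
          exact (mul_inv_eq_iff_eq_mul.1 h5).symm
        rw [← OM.Dich.oddGen_sup_syl hsylY]
        exact sup_le (hodd.trans ((centralizer_le (h.fr.blk j).ZV).trans (centralizer_le_normalizer _))) hTj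
      · by_cases hmj : m = j
        · exfalso
          subst hmj
          apply h3.nZ
          intro l hl
          -- `l = r t`
          have h4 : l ∈ R ⊔ T := hYX (h1 hl)
          obtain ⟨t, ht, r, hr, rfl⟩ := SQ1.Bau.mem_sup_norm (hTH.trans hHR) (by rw [sup_comm]; exact h4)
          have hrW : r ∈ normalizer (W m : Set G) := by
            have h5 := mul_mem (inv_mem (hTW ht)) (h3.nW hl)
            rwa [inv_mul_cancel_left] at h5
          refine mul_mem (hTj ht) ?_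
          have h6 : zpowers r ≤ normalizer (Z m : Set G) :=
            ML.MinFrame.le_normalizer_of fun g hg z hz => hRZ g ((zpowers_le.2 (mem_inf.2 ⟨hr, hrW⟩)) hg) z hz
          exact h6 (mem_zpowers r)
        · refine h2.trans (sup_le ?_ hTj)
          refine le_trans (fun l hl => mem_centralizer_iff.2 fun z hz => ?_) (centralizer_le_normalizer _)
          exact (h3.cen z (h.fr.Z_le j hz) (h.fr.WjC m j hmj ((h.fr.blk j).ZV hz)) l hl).symm
  -- `R` normalises `W j`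
  obtain ⟨a, haR, ⟨n, hn⟩, w, hw, hne⟩ := hmv
  apply hne
  have haW : a ∈ normalizer (W j : Set G) := by
    obtain ⟨k, hk, hk1⟩ := exists_ne (nb h j)
    have h1 : a ∈ normalizer ((cj k (Z j) : Subgroup G) : Set G) := by
      have h2 : k⁻¹ * a * k ∈ normalizer (Z j : Set G) := hRj ((mem_normalizer_iff''.1 (hHR (hLH hk)) a).1 haR)
      rw [← cj_normalizer, mem_cj]
      exact h2
    rw [mem_normalizer_iff_cj, ← sup_eq (nb h j) hk hk1]
    rw [show cj a (Z j ⊔ cj k (Z j)) = cj a (Z j) ⊔ cj a (cj k (Z j)) from Subgroup.map_sup _ _ _,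
      mem_normalizer_iff_cj.1 h1, mem_normalizer_iff_cj.1 (hRj haR)]
  exact mul_inv_eq_iff_eq_mul.1 (h2el a (mem_inf.2 ⟨haR, haW⟩) n hn w hw)

/-- **(4)**: `H = R M` if `H` is generated by `M` and subgroups of `N(W j)`. -/
theorem four_mul [Finite ι] {b c : G} (hb : b ∈ Z i) (hb1 : b ≠ 1) (hc : c ∈ Z j) (hc1 : c ≠ 1)
    (hbT : (S : Subgroup G) ⊓ normalizer (Z i : Set G) ≤ centralizer ({b} : Set G))
    (hcT : (S : Subgroup G) ⊓ normalizer (Z i : Set G) ≤ centralizer ({c} : Set G))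
    (hD : DichQ ZJ W Z C ((S : Subgroup G) ⊓ normalizer (Z i : Set G)) b) {H R : Subgroup G}
    (hMH : centralizer ({b} : Set G) ⊓ centralizer ({c} : Set G) ≤ H) (hLH : L j ≤ H)
    (hHb : H ≤ centralizer ({b} : Set G)) (hRH : R ≤ H) (hHR : H ≤ normalizer (R : Set G))
    (hgen : H ≤ (centralizer ({b} : Set G) ⊓ centralizer ({c} : Set G)) ⊔
      (centralizer ({b} : Set G) ⊓ normalizer (W j : Set G)))
    (hmv : ∃ a ∈ R, (∃ n : ℕ, a ^ 2 ^ n = 1) ∧ ∃ w ∈ W j, a * w ≠ w * a) {x : G} (hx : x ∈ H) :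
    ∃ r ∈ R, ∃ m ∈ centralizer ({b} : Set G) ⊓ centralizer ({c} : Set G), x = m * r := by
  have h1 := hgen.trans (sup_le le_sup_right (four h p hb hb1 hc hc1 hbT hcT hD hMH hLH hHb hRH hHR hmv)) hx
  rw [sup_comm, ← SetLike.mem_coe, Subgroup.coe_mul_of_left_le_normalizer_right _ _ (hMH.trans hHR)] at h1
  obtain ⟨m, hm, r, hr, rfl⟩ := Set.mem_mul.1 h1
  exact ⟨r, hr, m, hm, rfl⟩

omit p h [Finite G] in
/-- a 2-subgroup of `R` moving `⟨(W j)^H⟩` -/
theorem hmv_of {H R A : Subgroup G} (hHR : H ≤ normalizer (R : Set G)) (hAR : A ≤ R) (hA : IsPGroup 2 A)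
    (hmv : ¬ A ≤ centralizer ((⨆ x : H, cj (x : G) (W j) : Subgroup G) : Set G)) :
    ∃ a ∈ R, (∃ n : ℕ, a ^ 2 ^ n = 1) ∧ ∃ w ∈ W j, a * w ≠ w * a := by
  by_contra hcon
  push Not at hcon
  apply hmv
  rw [le_centralizer_iff]
  refine iSup_le fun x => ?_
  rintro _ ⟨w, hw, rfl⟩
  refine mem_centralizer_iff.2 fun a ha => ?_
  obtain ⟨n, hn⟩ := hA ⟨a, ha⟩
  have h1 : (x : G)⁻¹ * a * x ∈ R := (mem_normalizer_iff''.1 (hHR x.2) a).1 (hAR ha)
  have h2 : ((x : G)⁻¹ * a * x) ^ 2 ^ n = 1 := by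
    have h3 : ((x : G)⁻¹ * a * (x : G)⁻¹⁻¹) ^ 2 ^ n = (x : G)⁻¹ * a ^ 2 ^ n * (x : G)⁻¹⁻¹ := conj_pow
    rw [inv_inv] at h3
    rw [h3, show a ^ 2 ^ n = 1 from congrArg Subtype.val hn]
    group
  have h4 := hcon _ h1 ⟨n, h2⟩ w hw
  show a * ((x : G) * w * (x : G)⁻¹) = (x : G) * w * (x : G)⁻¹ * a
  calc a * ((x : G) * w * (x : G)⁻¹) = x * ((x : G)⁻¹ * a * x * w) * (x : G)⁻¹ := by group
    _ = x * (w * ((x : G)⁻¹ * a * x)) * (x : G)⁻¹ := by rw [h4]
    _ = (x : G) * w * (x : G)⁻¹ * a := by group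

end bg

end Cfsg.Agent.Omega.NO3S.EMany.FourQ

end

section


/-!
# NO-3S, case (E), `k ≥ 3`, all `q`: the input `DichQ` of `FourQ.lean` at stage `-1`

* `trN` : `N_L(B)` is transitive on `V / Z - 1` (`L` a natural block over `B`);
* `V_le` : **`V_{L'} = W i`** for `q > 2` (Cor. (a) of bb #14470): `L'` a block over `B` with `Z' = Z i`;
* `blkQ` : every block over `B` is a block at some `m`;
* `dichQ` : **`DichQ` at stage `-1`**.
-/

set_option autoImplicit false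
set_option linter.unusedVariables false
set_option linter.unusedSectionVars false

namespace Cfsg.Agent.Omega.NO3S.EMany.FourDQ

open Subgroup Cfsg Cfsg.Agent.ZN.ChoiceBase
open Cfsg.Agent.ZN (jj zj bau zc zl o2)
open Cfsg.Agent.ZN.ChoiceSit (Syl exists_syl syl_conj isPGroup_o2 le_o2 le_normalizer_o2 o2_le_syl syl_not_dvd)
open Cfsg.Agent.MinSimple.MinParabolic (IsMinPar)
open Cfsg.Agent.MinSimple.VModule (oddGen)
open Cfsg.Agent.Omega
open Cfsg.Agent.Omega.OM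
open Cfsg.Agent.Omega.OM.Uni (FB Fr)
open Cfsg.Agent.Omega.OM.UniPlus (NB)
open Cfsg.Agent.Omega.SQ1.Bau (mem_sup_comm)
open Cfsg.Agent.Omega.NO3S.EThree.Frame
open Cfsg.Agent.Omega.NO3S.EMany.AltQ
open Cfsg.Agent.Omega.NO3S.EMany.FourQ

universe u

variable {G : Type u} [Group G]

section nb

variable [Finite G] {B L V Z : Subgroup G} {q : ℕ} (h : NB B L V Z q)
include h

theorem ti {x y : G} (hx : x ∈ L) (hy : y ∈ L) (hne : cj x Z ⊓ cj y Z ≠ ⊥) : cj x Z = cj y Z := by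
  by_contra hcon
  apply hne
  have h1 : cj (y⁻¹ * x) Z ≠ Z := by
    intro e
    apply hcon
    have h2 := congrArg (cj y) e
    rwa [cj_cj, mul_inv_cancel_left] at h2
  have h2 := h.tri' (mul_mem (inv_mem hy) hx) h1
  have h3 := congrArg (cj y) h2
  rw [cj_inf, cj_cj, mul_inv_cancel_left] at h3
  rw [h3]
  exact Subgroup.map_bot _

/-- `N_L(B)` is transitive on `V / Z - 1`. -/
theorem trN (hB : IsPGroup 2 B) (hr : Rt B V Z) {k : G} (hk : k ∈ L) (hne : cj k Z ≠ Z) {y₁ y₂ : G}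
    (h1 : y₁ ∈ cj k Z) (h11 : y₁ ≠ 1) (h2 : y₂ ∈ cj k Z) (h21 : y₂ ≠ 1) :
    ∃ x ∈ L, x ∈ normalizer (B : Set G) ∧ x * y₁ * x⁻¹ * y₂⁻¹ ∈ Z := by
  -- `n ∈ N_L(B^k)`, `n y₁ n⁻¹ = y₂`
  obtain ⟨z₁, hz₁, rfl⟩ := h1
  obtain ⟨z₂, hz₂, rfl⟩ := h2
  change z₁ ∈ Z at hz₁
  change z₂ ∈ Z at hz₂
  change k * z₁ * k⁻¹ ≠ 1 at h11
  change k * z₂ * k⁻¹ ≠ 1 at h21
  show ∃ x ∈ L, x ∈ normalizer (B : Set G) ∧ x * (k * z₁ * k⁻¹) * x⁻¹ * (k * z₂ * k⁻¹)⁻¹ ∈ Z
  obtain ⟨n₀, hn₀, hn₀B, e₀⟩ := h.tor' hz₁ (fun e => h11 (by rw [e]; group)) hz₂ (fun e => h21 (by rw [e]; group))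
  -- `n = k n₀ k⁻¹`
  set n := k * n₀ * k⁻¹ with hn
  have hnL : n ∈ L := mul_mem (mul_mem hk hn₀) (inv_mem hk)
  have hnY : cj n (cj k Z) = cj k Z := by
    have h3 : cj n₀ Z = Z := by
      refine Subgroup.eq_of_le_of_card_ge ?_ (by rw [card_cj])
      rintro _ ⟨z, hz, rfl⟩
      exact h.nZ hn₀ hn₀B hz
    rw [hn, cj_cj, inv_mul_cancel_right, ← cj_cj, h3]
  -- `Y' = Z^n ≠ Z^k`
  have hY' : cj n Z ≠ cj k Z := by
    intro e
    apply hne
    rw [← hnY] at e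
    have h3 := congrArg (cj n⁻¹) e
    rw [cj_inv_cj, cj_inv_cj] at h3
    exact h3.symm
  obtain ⟨z, hz, hz1⟩ : ∃ z ∈ Z, z ≠ 1 := ⟨z₁, hz₁, fun e => h11 (by rw [e]; group)⟩
  -- `z = y y'`
  obtain ⟨y, hy, y', hy', ez⟩ : ∃ y ∈ cj k Z, ∃ y' ∈ cj n Z, z = y * y' := by
    have h3 := sup_eq (h.conj k) (x := n * k⁻¹) ⟨k⁻¹ * n, mul_mem (inv_mem hk) hnL, by
      show k * (k⁻¹ * n) * k⁻¹ = n * k⁻¹
      group⟩ (by
      rw [cj_cj, inv_mul_cancel_right]
      exact hY')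
    rw [cj_cj, inv_mul_cancel_right] at h3
    have hV : cj k V = V := by
      refine Subgroup.eq_of_le_of_card_ge ?_ (by rw [card_cj])
      rintro _ ⟨v, hv, rfl⟩
      exact h.nV k hk v hv
    rw [hV] at h3
    have hz' : z ∈ cj k Z ⊔ cj n Z := by rw [h3]; exact h.ZV hz
    exact mem_sup_comm (fun a ha b hb => h.comm (h.cjV hk ha) (h.cjV hnL hb)) hz'
  have hzk : cj k Z ⊓ Z = ⊥ := h.tri' hk hne
  have hy'k : y' ∉ cj k Z := by
    intro hc
    have h3 : z ∈ cj k Z ⊓ Z := mem_inf.2 ⟨by rw [ez]; exact mul_mem hy hc, hz⟩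
    rw [hzk, mem_bot] at h3
    exact hz1 h3
  -- `b ∈ B^k` with `b y' b⁻¹ = z`
  obtain ⟨b₀, hb₀, e₁⟩ := hr (k⁻¹ * y' * k) (h.toFB.nV' hk (h.cjV hnL hy')) (fun hc => hy'k (by rw [mem_cj]; exact hc))
    (k⁻¹ * y * k) (mem_cj.1 hy)
  set b := k * b₀ * k⁻¹ with hb
  have hbL : b ∈ L := mul_mem (mul_mem hk (h.BL hb₀)) (inv_mem hk)
  have e₂ : b * y' * b⁻¹ = z := by
    have h3 : b * y' * b⁻¹ * y'⁻¹ = y := by
      calc b * y' * b⁻¹ * y'⁻¹ = k * (b₀ * (k⁻¹ * y' * k) * b₀⁻¹ * (k⁻¹ * y' * k)⁻¹) * k⁻¹ := by rw [hb]; group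
        _ = y := by rw [e₁]; group
    rw [ez, ← h3]; group
  have hbn : cj (b * n) Z = Z := by
    have h3 : cj (b * n) Z ⊓ cj 1 Z ≠ ⊥ := by
      intro hbot
      have h4 : z ∈ cj (b * n) Z ⊓ cj 1 Z := by
        refine mem_inf.2 ⟨?_, by rw [cj_one]; exact hz⟩
        rw [← cj_cj, ← e₂]
        exact ⟨y', hy', rfl⟩
      rw [hbot, mem_bot] at h4
      exact hz1 h4
    have h4 := ti h (mul_mem hbL hnL) (one_mem L) h3
    rwa [cj_one] at h4
  -- `m = b n`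
  set m := b * n with hm
  have hmL : m ∈ L := mul_mem hbL hnL
  have e₃ : m * (k * z₁ * k⁻¹) * m⁻¹ = k * z₂ * k⁻¹ := by
    have h3 : b₀ * z₂ = z₂ * b₀ := h.cZ b₀ hb₀ z₂ hz₂
    calc m * (k * z₁ * k⁻¹) * m⁻¹ = k * (b₀ * (n₀ * z₁ * n₀⁻¹) * b₀⁻¹) * k⁻¹ := by rw [hm, hb, hn]; group
      _ = k * (z₂ * b₀ * b₀⁻¹) * k⁻¹ := by rw [e₀, h3]
      _ = k * z₂ * k⁻¹ := by group
  -- the elements trivial on `Z` and `V / Z`
  let X : Subgroup G :=
    { carrier := {x | x ∈ L ∧ (∀ z ∈ Z, x * z * x⁻¹ = z) ∧ ∀ v ∈ V, x * v * x⁻¹ * v⁻¹ ∈ Z}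
      one_mem' := ⟨one_mem _, fun z _ => by group, fun v _ => by
        have : (1 : G) * v * 1⁻¹ * v⁻¹ = 1 := by group
        rw [this]; exact one_mem _⟩
      mul_mem' := by
        rintro a b ⟨ha, ha1, ha2⟩ ⟨hb, hb1, hb2⟩
        refine ⟨mul_mem ha hb, fun z hz => ?_, fun v hv => ?_⟩
        · calc a * b * z * (a * b)⁻¹ = a * (b * z * b⁻¹) * a⁻¹ := by group
            _ = z := by rw [hb1 z hz, ha1 z hz]
        · have e : a * b * v * (a * b)⁻¹ * v⁻¹ = a * (b * v * b⁻¹ * v⁻¹) * a⁻¹ * (a * v * a⁻¹ * v⁻¹) := by group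
          rw [e, ha1 _ (hb2 v hv)]
          exact mul_mem (hb2 v hv) (ha2 v hv)
      inv_mem' := by
        rintro a ⟨ha, ha1, ha2⟩
        have ha1' : ∀ z ∈ Z, a⁻¹ * z * a⁻¹⁻¹ = z := fun z hz => by
          conv_lhs => rw [← ha1 z hz]
          group
        refine ⟨inv_mem ha, ha1', fun v hv => ?_⟩
        have e : a⁻¹ * v * a⁻¹⁻¹ * v⁻¹ = a⁻¹ * (a * v * a⁻¹ * v⁻¹)⁻¹ * a⁻¹⁻¹ := by group
        rw [e, ha1' _ (inv_mem (ha2 v hv))]
        exact inv_mem (ha2 v hv) }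
  have hXL : X ≤ L := fun x hx => hx.1
  have hBX : B ≤ X := fun x hx => ⟨h.BL hx, fun z hz => by rw [h.cZ x hx z hz]; group, fun v hv => h.com x hx v hv⟩
  have hmX : cj m X = X := by
    refine Subgroup.eq_of_le_of_card_ge ?_ (by rw [card_cj])
    rintro _ ⟨x, hx, rfl⟩
    obtain ⟨hx, hx1, hx2⟩ := (hx : x ∈ X)
    show m * x * m⁻¹ ∈ X
    have hmz : ∀ z ∈ Z, m⁻¹ * z * m ∈ Z := fun z hz => by
      rw [← hbn] at hz
      exact mem_cj.1 hz
    have hmz' : ∀ z ∈ Z, m * z * m⁻¹ ∈ Z := fun z hz => by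
      rw [← hbn]
      exact ⟨z, hz, rfl⟩
    refine ⟨mul_mem (mul_mem hmL hx) (inv_mem hmL), fun z hz => ?_, fun v hv => ?_⟩
    · calc m * x * m⁻¹ * z * (m * x * m⁻¹)⁻¹ = m * (x * (m⁻¹ * z * m) * x⁻¹) * m⁻¹ := by group
        _ = z := by rw [hx1 _ (hmz z hz)]; group
    · have e : m * x * m⁻¹ * v * (m * x * m⁻¹)⁻¹ * v⁻¹ =
          m * (x * (m⁻¹ * v * m) * x⁻¹ * (m⁻¹ * v * m)⁻¹) * m⁻¹ := by group
      rw [e]
      exact hmz' _ (hx2 _ (h.toFB.nV' hmL hv))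
  have hBs : Syl B X := ⟨hBX, hB, fun Q hQ h3 hle => h.syl Q hle (hQ.trans hXL) h3⟩
  have hBm : Syl (cj m B) X := by
    refine ⟨?_, isPGroup_cj m hB, fun Q hQ h3 hle => ?_⟩
    · rw [← hmX]; exact cj_mono m hBX
    · have h4 := hBs.2.2 (cj m⁻¹ Q) (by rw [cj_le_iff, inv_inv, hmX]; exact hQ) (isPGroup_cj _ h3) (by
        rw [← cj_inv_cj m B]; exact cj_mono _ hle)
      have h5 := congrArg (cj m) h4
      rwa [cj_cj, mul_inv_cancel, cj_one] at h5
  obtain ⟨x, hx, ex⟩ := syl_conj hBm hBs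
  refine ⟨x * m, mul_mem hx.1 hmL, ?_, ?_⟩
  · rw [mem_normalizer_iff_cj, ← cj_cj, ex]
  · have h3 := hx.2.2 _ (h.nV k hk z₂ (h.ZV hz₂))
    have e : x * m * (k * z₁ * k⁻¹) * (x * m)⁻¹ * (k * z₂ * k⁻¹)⁻¹ =
        x * (m * (k * z₁ * k⁻¹) * m⁻¹) * x⁻¹ * (k * z₂ * k⁻¹)⁻¹ := by group
    rw [e, e₃]
    exact h3

end nb

section bg

variable [Finite G] {S : Sylow 2 G} {P : Subgroup G} {ι : Type} {B ZJ : Subgroup G}
  {L W Z C : ι → Subgroup G} {q : ℕ} (h : Bg S P B ZJ L W Z C q)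
include h

/-- `[v, B] = Z i` for `v ∈ V' - Z i`, `V' ≤ W i Z_J`. -/
theorem rt' {i : ι} {L' V' : Subgroup G} (hN : NB B L' V' (Z i) q) (hV : V' ≤ W i ⊔ ZJ) : Rt B V' (Z i) := by
  intro v hv hvZ z hz
  obtain ⟨w, hw, c, hc, rfl⟩ := mem_sup_comm
    (fun a ha b hb => h.fr.Vc (h.fr.WV i ha) (h.fr.ZJV hb)) (hV hv)
  have hcB := ((h.fr.mem_ZJ c).1 hc).2
  have hwZ : w ∉ Z i := by
    intro hwZ
    refine hvZ (hN.toMd.mem_Z_iff.2 ⟨hv, fun b hb => ?_⟩)
    have c1 : Commute b w := h.fr.blk i |>.cZ b hb w hwZ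
    have c2 : Commute b c := hcB b hb
    exact (c1.mul_right c2).eq
  obtain ⟨b, hb, e⟩ := rt h i w hw hwZ z hz
  refine ⟨b, hb, ?_⟩
  have e2 : b * c * b⁻¹ = c := by rw [hcB b hb]; group
  calc b * (w * c) * b⁻¹ * (w * c)⁻¹ = b * w * b⁻¹ * (b * c * b⁻¹) * c⁻¹ * w⁻¹ := by group
    _ = b * w * b⁻¹ * w⁻¹ := by rw [e2]; group
    _ = z := e

/-- **`V_{L'} = W i`** -/
theorem V_eq [Finite ι] (hq : 2 < q) {i : ι} {L' V' : Subgroup G} (hN : NB B L' V' (Z i) q) (hV : V' ≤ W i ⊔ ZJ)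
    (hcen : ∀ z ∈ ZJ, z ∈ C i → ∀ l ∈ L', l * z = z * l) : V' = W i := by
  refine Subgroup.eq_of_le_of_card_ge ?_ (by rw [hN.card, (h.fr.blk i).card])
  -- `[V', N_{L'}(B)] ≤ W i`
  have key : ∀ x ∈ L', x ∈ normalizer (B : Set G) → ∀ v ∈ V', x * v * x⁻¹ * v⁻¹ ∈ W i := by
    intro x hx hxB v hv
    obtain ⟨w, hw, c, hc, rfl⟩ := mem_sup_comm
      (fun a ha b hb => h.fr.Vc (h.fr.WV i ha) (h.fr.ZJV hb)) (hV hv)
    obtain ⟨z, hz, d, hd, hdJ, rfl⟩ := h.fr.split_ZJ i hc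
    have hxZ : cj x (Z i) = Z i := by
      refine Subgroup.eq_of_le_of_card_ge ?_ (by rw [card_cj])
      rintro _ ⟨z, hz, rfl⟩
      exact hN.nZ hx hxB hz
    have hxW : cj x (W i) = W i := h.cj_W hxB hxZ
    have hwz : w * z ∈ W i := mul_mem hw ((h.fr.blk i).ZV hz)
    have h1 : x * (w * z) * x⁻¹ ∈ cj x (W i) := ⟨_, hwz, rfl⟩
    rw [hxW] at h1
    have h2 : x * d * x⁻¹ = d := by rw [hcen d hdJ hd x hx]; group
    have e : x * (w * (z * d)) * x⁻¹ * (w * (z * d))⁻¹ = x * (w * z) * x⁻¹ * (x * d * x⁻¹) * d⁻¹ * (w * z)⁻¹ := by group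
    rw [e, h2, mul_inv_cancel_right]
    exact mul_mem h1 (inv_mem hwz)
  obtain ⟨k, hk, hne⟩ := exists_ne hN
  rw [← sup_eq hN hk hne]
  refine sup_le (h.fr.blk i).ZV fun y₀ hy₀ => ?_
  by_cases hy01 : y₀ = 1
  · rw [hy01]; exact one_mem _
  -- `y₁ ≠ 1, y₀`
  have hcard : Nat.card (cj k (Z i)) = q := by rw [card_cj, h.fr.cardZ]
  obtain ⟨y₁, hy₁, h1, h2⟩ : ∃ y ∈ cj k (Z i), y ≠ 1 ∧ y ≠ y₀⁻¹ := by
    by_contra hcon
    push Not at hcon
    have h1 : (cj k (Z i) : Set G) ⊆ {1, y₀⁻¹} := by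
      intro x hx
      by_cases hx1 : x = 1
      · exact Or.inl hx1
      · exact Or.inr (hcon x hx hx1)
    have h2 := Set.ncard_le_ncard h1 (Set.toFinite _)
    have h3 : (cj k (Z i) : Set G).ncard = Nat.card (cj k (Z i)) := rfl
    rw [h3, hcard] at h2
    have h4 := Set.ncard_insert_le (1 : G) {y₀⁻¹}
    rw [Set.ncard_singleton] at h4
    omega
  have hy₂ : y₀ * y₁ ∈ cj k (Z i) := mul_mem hy₀ hy₁
  have hy₂1 : y₀ * y₁ ≠ 1 := fun e => h2 (eq_inv_of_mul_eq_one_right e)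
  obtain ⟨x, hx, hxB, hxy⟩ := trN hN h.bau_two (rt' h hN hV) hk hne hy₁ h1 hy₂ hy₂1
  have h3 := key x hx hxB y₁ (hN.cjV hk hy₁)
  -- `x y₁ x⁻¹ = z y₀ y₁`
  have h4 : y₀ = (x * y₁ * x⁻¹ * (y₀ * y₁)⁻¹)⁻¹ * (x * y₁ * x⁻¹ * y₁⁻¹) := by
    have hc : y₁ * y₀ = y₀ * y₁ := hN.comm (hN.cjV hk hy₁) (hN.cjV hk hy₀)
    group
  rw [h4]
  exact mul_mem (inv_mem ((h.fr.blk i).ZV hxy)) h3

end bg

section bs

variable [Finite G] {S : Sylow 2 G} {P : Subgroup G} {ι : Type} {L W Z C A : ι → Subgroup G} {q m : ℕ}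
  (h : Bs S P L W Z C A q m) (hs : 2 < q → ∀ i, Scal (S : Subgroup G) P W Z C i)
include h hs

/-- Every block over `B` is a block at some `n`. -/
theorem blkQ [Finite ι] (h4 : q = 2 → Nat.card (zj (S : Subgroup G)) ≠ 4) {L' V' Z' : Subgroup G} {q' : ℕ}
    (h' : FB (bau (S : Subgroup G)) L' V' Z' q') : ∃ n, BlkQ (zj (S : Subgroup G)) W Z C n L' := by
  have hq := h'.one
  obtain ⟨rfl, n, rfl, hN, h1⟩ := UniPlus.uniPlus' h.hyp.ctx.char2 h.fr h.bau_two (UniPlus.wc_bau S)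
    (fun g hg w hw v hv => by
      rw [(h.norm hg).1] at hw
      exact h.fr.Vc hw hv) h.two h'
  rcases h1 with ⟨h0, h2, h3⟩ | ⟨hq2, h2, -⟩
  · have hcen : ∀ z ∈ zj (S : Subgroup G), z ∈ C n → ∀ l ∈ L', l * z = z * l := fun z hz hzC l hl => (h2 z hz).1 hzC l hl
    have hV : V' = W n := by
      by_cases hq2 : q' = 2
      · exact (h3 hq2).1
      · exact V_eq (Bg.of_bs h hs) (by omega) hN h0 hcen
    refine ⟨n, hcen, ?_, fun hc => ?_⟩
    · rw [← hV]
      exact ML.MinFrame.le_normalizer_of fun g hg v hv => hN.nV g hg v hv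
    · obtain ⟨k, hk, hne⟩ := exists_ne hN
      exact hne (mem_normalizer_iff_cj.1 (hc hk))
  · exact absurd h2 (h4 hq2)

/-- **`DichQ` at stage `-1`.** -/
theorem dichQ [Finite ι] (hFF : FFThm.Stmt.{u}) (hA : FFBr.AStmt.{u})
    (h4 : q = 2 → Nat.card (zj (S : Subgroup G)) ≠ 4) {i : ι} {b : G} (hb : b ∈ Z i) (hb1 : b ≠ 1)
    (hbT : (S : Subgroup G) ⊓ normalizer (Z i : Set G) ≤ centralizer ({b} : Set G)) :
    DichQ (zj (S : Subgroup G)) W Z C ((S : Subgroup G) ⊓ normalizer (Z i : Set G)) b := by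
  intro Y hY hYb
  set T : Subgroup G := (S : Subgroup G) ⊓ normalizer (Z i : Set G) with hTd
  have hT0 : Syl T (centralizer ({b} : Set G)) := syl_b (Bg.of_bs h hs) hb hb1 hbT
  have hT : Syl T Y := ⟨hY.le, hT0.2.1, fun Q hQ h3 hle => hT0.2.2 Q (hQ.trans hYb) h3 hle⟩
  have hBT : bau (S : Subgroup G) ≤ T := h.bau_le_T i
  by_cases hJ : jj T ≤ o2 Y
  · left
    have h3 : jj (o2 Y) = jj T := Cfsg.Agent.ZN.ChoiceBase.jj_eq_of_jj_le hJ (o2_le_syl hT)
    have h4 : Y ≤ normalizer (jj (S : Subgroup G) : Set G) := by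
      rw [← LemmaK.Main.jj_eq S hT.2.1 hBT, ← h3]
      exact (le_normalizer_o2 Y).trans (normalizer_le_jj _)
    refine h4.trans ?_
    have h7 := normalizer_le_of_cj (F := zj) zj_cj (jj (S : Subgroup G))
    have h8 : zj (jj (S : Subgroup G)) = zj (S : Subgroup G) := zj_congr (jj_eq_of_jj_le le_rfl (jj_le _))
    rwa [h8] at h7
  right
  by_cases hZ : Y ≤ centralizer (zc T : Set G)
  · left
    exact le_centralizer_iff.1 (FixPt.fixPt hA hT hY hJ hZ)
  right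
  have hb2 : b ^ 2 = 1 := SQ1.Bau.elem_sq h.fr.el b (h.fr.ZV i hb)
  have hc : Y ⊓ centralizer (o2 Y : Set G) ≤ o2 Y :=
    MinSimple.Basic.char2_of_le (MinSimple.Basic.char2_centralizer h.hyp.ctx.char2 hb2 hb1)
      ((o2_le_syl hT0).trans hY.le) hYb
  obtain ⟨L', V', Z', q', h1, h2, h3⟩ := FourD.exists_fb hFF S hT hBT hY hc hJ hZ
  obtain ⟨n, hn⟩ := blkQ h hs h4 h1
  exact ⟨n, L', h2, h3, hn⟩

end bs

end Cfsg.Agent.Omega.NO3S.EMany.FourDQ

end

section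


/-!
# THEOREM Y2 (helper743 #19822), stage `-1`, `q = 2`, natural modules, any number of factors

`B = bau S`, `Z_J = zj S`. Every 2-group `T ≥ B` satisfies `C_G(Ω₁(Z(T))) ≤ N_G(Z_J)`.  The proof uses the abstract
THEOREM SW (`Swap.SitFalse`, helper394, helper100, helper590): a counterexample with `C₀ = Ω₁(Z(T))` maximal gives
`Swap.Sit`.

* `Bad`, `exists_bad_max`, `MaxC` : the choice of `C₀`; `MaxC.cent` : `C₀ < X ≤ Z_J → C_G(X) ≤ N_G(Z_J)`;
  `MaxC.mem` : (b);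
* `exists_pair_of` : the pair `(T, F)`;
* `MaxC.exists_sit`, `cent_zc_le`.
-/

set_option autoImplicit false
set_option linter.unusedSectionVars false

namespace Cfsg.Agent.Omega.OM.YTwo

open Subgroup Cfsg Cfsg.Agent.ZN.ChoiceBase Cfsg.Agent.ZN.ChoiceSit
open Cfsg.Agent.ZN (jj zj bau zc zl o2)
open Cfsg.Agent.MinSimple.MinParabolic (IsMinPar)
open Cfsg.Agent.MinSimple.VModule (oddGen oddGen_le)
open Cfsg.Agent.Omega.OM.Swap
open Cfsg.Agent.Omega.NO3S.EThree.Frame (Bs)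

universe u

variable {G : Type u} [Group G] [Finite G]

/-! ### General facts -/

theorem S_le (S : Sylow 2 G) : (S : Subgroup G) ≤ normalizer (zj (S : Subgroup G) : Set G) :=
  (Line.S_le S).trans (Dich.norm_zj _)

theorem norm_jj_zj (S : Sylow 2 G) :
    normalizer (jj (S : Subgroup G) : Set G) ≤ normalizer (zj (S : Subgroup G) : Set G) :=
  norm_jj_le S (centralizer_le_normalizer _) (Dich.norm_zj _)

theorem mem_of_cj (S : Sylow 2 G) {g : G} (h : cj g (bau (S : Subgroup G)) ≤ normalizer (zj (S : Subgroup G) : Set G)) :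
    g ∈ normalizer (zj (S : Subgroup G) : Set G) :=
  mem_of_cj_bau_le S (S_le S) (Dich.norm_zj _) h

theorem zc_le_zj' (S : Sylow 2 G) {T : Subgroup G} (hT : IsPGroup 2 T) (hB : bau (S : Subgroup G) ≤ T) :
    zc T ≤ zj (S : Subgroup G) := by
  rw [← LemmaK.Main.zj_eq S hT hB]
  exact zc_le_zj T

/-- A minimal parabolic over `T` not contained in `N_G(Z_J)`. -/
theorem exists_par (S : Sylow 2 G) {T H : Subgroup G} (hT : Syl T H) (hB : bau (S : Subgroup G) ≤ T)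
    (hM : ¬ H ≤ normalizer (zj (S : Subgroup G) : Set G)) :
    ∃ Y : Subgroup G, IsMinPar T Y ∧ Y ≤ H ∧ ¬ Y ≤ normalizer (zj (S : Subgroup G) : Set G) ∧ ¬ jj T ≤ o2 Y := by
  have hbau : bau T = bau (S : Subgroup G) := LemmaK.Main.bau_eq S hT.2.1 hB
  have hjj : jj T = jj (S : Subgroup G) := LemmaK.Main.jj_eq S hT.2.1 hB
  obtain ⟨Y, hY, hYH, hYM⟩ : ∃ Y : Subgroup G, IsMinPar T Y ∧ Y ≤ H ∧
      ¬ Y ≤ normalizer (zj (S : Subgroup G) : Set G) := by
    by_contra hcon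
    push Not at hcon
    apply hM
    refine MinSimple.MinParabolic.le_of_forall hT.1 ?_ hcon
    refine inf_le_right.trans (le_trans ?_ (Dich.norm_zj _))
    rw [← hbau]
    exact normalizer_le_bau T
  refine ⟨Y, hY, hYH, hYM, fun h1 => hYM ?_⟩
  have hTY : Syl T Y := ⟨hY.le, hT.2.1, fun Q hQ h2 hTQ => hT.2.2 Q (hQ.trans hYH) h2 hTQ⟩
  have h3 : jj (o2 Y) = jj T := jj_eq_of_jj_le h1 (o2_le_syl hTY)
  have h4 : Y ≤ normalizer (jj (S : Subgroup G) : Set G) := by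
    rw [← hjj, ← h3]
    exact (MinSimple.VModule.le_normalizer_o2 Y).trans (normalizer_le_jj _)
  exact h4.trans (norm_jj_zj S)

/-- The second half of `Swap.exists_pair`: the pair `(T, F)` inside a minimal parabolic `Y` with `[Ω₁(Z(T₀)), Y] = 1`,
`J(T₀) ≰ O₂(Y)`, `Y ≰ M`. -/
theorem exists_pair_of {ι : Type} [Finite ι] {S : Sylow 2 G} {P : Subgroup G} {L W Z C A : ι → Subgroup G} {q : ℕ}
    (h : Line S P L W Z C A q) (hA : FFBr.AStmt.{u}) {M H T₀ Y : Subgroup G}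
    (hD : centralizer (zj (S : Subgroup G) : Set G) ≤ M) (hN : normalizer (bau (S : Subgroup G) : Set G) ≤ M)
    (hT₀ : Syl T₀ H) (hBT₀ : bau (S : Subgroup G) ≤ T₀) (hc : H ⊓ centralizer (o2 H : Set G) ≤ o2 H)
    (hYm : IsMinPar T₀ Y) (hYH : Y ≤ H) (hYJ : ¬ jj T₀ ≤ o2 Y) (hYc : Y ≤ centralizer (zc T₀ : Set G))
    (hYM : ¬ Y ≤ M) :
    ∃ T F : Subgroup G, Pair S P M T F ∧ F ≤ Y := by
  have : Fact (Nat.Prime 2) := ⟨Nat.prime_two⟩
  have hTM : T₀ ≤ M := (Dich.two_le S hT₀.2.1 hBT₀).trans hN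
  have hTY : Syl T₀ Y := ⟨hYm.le, hT₀.2.1, fun Q hQ h2 hTQ => hT₀.2.2 Q (hQ.trans hYH) h2 hTQ⟩
  have hcY : Y ⊓ centralizer (o2 Y : Set G) ≤ o2 Y := by
    have h4 : o2 H ≤ o2 Y :=
      le_o2 (isPGroup_o2 H) ((o2_le_syl hT₀).trans hYm.le) (hYH.trans (MinSimple.VModule.le_normalizer_o2 H))
    rintro x ⟨hx, hxc⟩
    exact h4 (hc ⟨hYH hx, centralizer_le (by exact_mod_cast h4) hxc⟩)
  have hVY : zl (S : Subgroup G) P ≤ o2 Y := V_le_o2 h hT₀.2.1 hBT₀ hYm.le hYc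
  -- `Y₁ = O²(Y) O₂(Y) B`
  set Y₁ : Subgroup G := oddGen Y ⊔ (o2 Y ⊔ bau (S : Subgroup G)) with hY₁
  have hY₁Y : Y₁ ≤ Y := sup_le (oddGen_le Y) (sup_le (o2_le Y) (hBT₀.trans hYm.le))
  have hOB : IsPGroup 2 (o2 Y ⊔ bau (S : Subgroup G) : Subgroup G) :=
    hT₀.2.1.to_le (sup_le (o2_le_syl hTY) hBT₀)
  obtain ⟨T, hT, hOT⟩ := exists_syl hOB (le_sup_right : o2 Y ⊔ bau (S : Subgroup G) ≤ Y₁)
  have hY₁M : ¬ Y₁ ≤ M := by
    intro hle
    apply hYM
    rw [← Dich.oddGen_sup_syl hTY]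
    exact sup_le (le_sup_left.trans hle) hTM
  obtain ⟨F, hF⟩ := (Set.toFinite {K : Subgroup G | T ≤ K ∧ K ≤ Y₁ ∧ ¬ K ≤ M}).exists_minimal
    ⟨Y₁, hT.1, le_rfl, hY₁M⟩
  obtain ⟨hTF, hFY₁, hFM⟩ := hF.prop
  have hFY : F ≤ Y := hFY₁.trans hY₁Y
  have hsyl : Syl T F := ⟨hTF, hT.2.1, fun Q hQ h2 hle => hT.2.2 Q (hQ.trans hFY₁) h2 hle⟩
  have hBT : bau (S : Subgroup G) ≤ T := le_sup_right.trans hOT
  have hOF : o2 Y ≤ o2 F :=
    le_o2 (isPGroup_o2 Y) ((le_sup_left.trans hOT).trans hTF) (hFY.trans (MinSimple.VModule.le_normalizer_o2 Y))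
  refine ⟨T, F, ⟨hsyl, hBT, hFM, fun K hTK hKF => ?_, fun hJ => hFM ?_, hVY.trans hOF, ?_⟩, hFY⟩
  · by_contra hKM
    exact hKF.not_ge (hF.le_of_le ⟨hTK, hKF.le.trans hFY₁, hKM⟩ hKF.le)
  · have hjT : jj T = jj (S : Subgroup G) := LemmaK.Main.jj_eq S hT.2.1 hBT
    have h2 : jj (o2 F) = jj (S : Subgroup G) := by
      rw [← hjT]
      exact jj_eq_of_jj_le (hjT ▸ hJ) (o2_le_syl hsyl)
    have h3 := (MinSimple.VModule.le_normalizer_o2 F).trans (normalizer_le_jj (o2 F))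
    rw [h2] at h3
    exact h3.trans (norm_jj_le S hD hN)
  · rintro z ⟨hz, hzc⟩
    have hzB : z ∈ bau (S : Subgroup G) := zj_le_bau _ hz
    have hzO : ∀ y ∈ o2 Y, y * z = z * y := fun y hy => mem_centralizer_iff.1 hzc y (hOF hy)
    have hz1 : z ∈ zc (o2 Y) := by
      refine mem_zc.2 ⟨hcY ⟨hYm.le (hBT₀ hzB), mem_centralizer_iff.2 hzO⟩, (mem_zj.1 hz).2.1, hzO⟩
    have hz2 : z ∈ centralizer (oddGen Y : Set G) := FixPt.fixPt hA hTY hYm hYJ hYc hz1
    have hle : Y₁ ≤ centralizer ({z} : Set G) := by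
      refine sup_le (fun y hy => ?_) (sup_le (fun y hy => ?_) fun y hy => ?_) <;>
        rw [mem_centralizer_singleton_iff]
      · exact mem_centralizer_iff.1 hz2 y hy
      · exact hzO y hy
      · exact ((mem_bau.1 hy).2 z hz).symm
    rw [mem_centralizer_iff]
    intro y hy
    exact mem_centralizer_singleton_iff.1 (hle (hFY₁ hy))

/-! ### The choice of `C₀` -/

/-- `X = Ω₁(Z(T))` for a 2-group `T ≥ B`, `C_G(X) ≰ N_G(Z_J)`. -/
def Bad (S : Sylow 2 G) (X : Subgroup G) : Prop :=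
  ¬ centralizer (X : Set G) ≤ normalizer (zj (S : Subgroup G) : Set G) ∧
    ∃ T : Subgroup G, IsPGroup 2 T ∧ bau (S : Subgroup G) ≤ T ∧ X = zc T

/-- `C₀ = Ω₁(Z(T₀))` maximal bad, `T₀` a Sylow 2-subgroup of `C_G(C₀)`. -/
structure MaxC (S : Sylow 2 G) (C₀ T₀ : Subgroup G) : Prop where
  not : ¬ centralizer (C₀ : Set G) ≤ normalizer (zj (S : Subgroup G) : Set G)
  syl : Syl T₀ (centralizer (C₀ : Set G))
  BT : bau (S : Subgroup G) ≤ T₀
  eq : C₀ = zc T₀
  max : ∀ X, Bad S X → C₀ ≤ X → X ≤ C₀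

theorem MaxC.le {S : Sylow 2 G} {C₀ T₀ : Subgroup G} (m : MaxC S C₀ T₀) : C₀ ≤ zj (S : Subgroup G) :=
  m.eq.le.trans (zc_le_zj' S m.syl.2.1 m.BT)

theorem exists_maxC (S : Sylow 2 G) {X : Subgroup G} (hX : Bad S X) : ∃ C₀ T₀ : Subgroup G, MaxC S C₀ T₀ := by
  obtain ⟨C₀, hC⟩ := (Set.toFinite {X : Subgroup G | Bad S X}).exists_maximal ⟨X, hX⟩
  obtain ⟨hn, T, hT, hBT, e⟩ := hC.prop
  have hTc : T ≤ centralizer (C₀ : Set G) := by
    rw [e]
    exact MinSimple.VModule.le_centralizer_zc T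
  obtain ⟨T₀, hT₀, hTT₀⟩ := exists_syl hT hTc
  refine ⟨C₀, T₀, hn, hT₀, hBT.trans hTT₀, le_antisymm ?_ ?_, fun X hX hle => hC.le_of_ge hX hle⟩
  · intro z hz
    have h1 : z ∈ zc T := e ▸ hz
    obtain ⟨h2, h3, -⟩ := mem_zc.1 h1
    exact mem_zc.2 ⟨hTT₀ h2, h3, fun t ht => (mem_centralizer_iff.1 (hT₀.1 ht) z hz).symm⟩
  · intro z hz
    rw [e]
    have h1 : z ∈ zj (S : Subgroup G) := zc_le_zj' S hT₀.2.1 (hBT.trans hTT₀) hz
    obtain ⟨-, h3, h4⟩ := mem_zc.1 hz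
    exact mem_zc.2 ⟨hBT (zj_le_bau _ h1), h3, fun t ht => h4 t (hTT₀ ht)⟩

section line

variable {ι : Type} [Finite ι] {S : Sylow 2 G} {P : Subgroup G} {L W Z C A : ι → Subgroup G}

/-- the element with full support -/
theorem MaxC.full (h : Line S P L W Z C A 2) {C₀ T₀ : Subgroup G} (m : MaxC S C₀ T₀) :
    ∃ η ∈ C₀, ∀ i, η ∉ C i := by
  obtain ⟨η, hη, hs⟩ := exists_supp h Set.univ
  have hs' : ∀ i, η ∉ C i := fun i hi => (hs i).1 hi (Set.mem_univ i)
  refine ⟨η, ?_, hs'⟩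
  rw [m.eq]
  refine mem_zc.2 ⟨m.BT (zj_le_bau _ hη), (mem_zj.1 hη).2.1, fun t ht => ?_⟩
  exact comm_of_supp h (Dich.two_le S m.syl.2.1 m.BT ht) hη fun i j _ =>
    ⟨fun hi => absurd hi (hs' i), fun hj => absurd hj (hs' j)⟩

/-- (MAX) -/
theorem MaxC.cent (h : Line S P L W Z C A 2) (hFF : FFThm.Stmt.{u}) {C₀ T₀ : Subgroup G} (m : MaxC S C₀ T₀)
    [Nonempty ι] {X : Subgroup G} (hX : X ≤ zj (S : Subgroup G)) (hCX : C₀ ≤ X) (hne : ¬ X ≤ C₀) :
    centralizer (X : Set G) ≤ normalizer (zj (S : Subgroup G) : Set G) := by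
  by_contra hcon
  obtain ⟨η, hη, hηC⟩ := m.full h
  have hη1 : η ≠ 1 := by
    rintro rfl
    exact hηC (Classical.arbitrary ι) (one_mem _)
  have hX1 : X ≠ ⊥ := by
    rintro rfl
    exact hη1 (mem_bot.1 (hCX hη))
  have h4 : Nat.card (zj (S : Subgroup G)) ≠ 4 := by
    intro h4
    apply hcon
    have h1 : 1 < Nat.card C₀ := by
      have : Nontrivial C₀ := ⟨⟨⟨η, hη⟩, 1, fun e => hη1 (congrArg Subtype.val e)⟩⟩
      exact Finite.one_lt_card
    have h2 : Nat.card C₀ < Nat.card X := by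
      refine lt_of_le_of_ne (Subgroup.card_le_of_le hCX) fun e => hne ?_
      exact (Subgroup.eq_of_le_of_card_ge hCX e.ge).ge
    have h3 : Nat.card X ∣ 4 := h4 ▸ Subgroup.card_dvd_of_le hX
    have h5 : Nat.card X = 4 := by
      have h6 : Nat.card X ≤ 4 := Nat.le_of_dvd (by norm_num) h3
      interval_cases hc : Nat.card X <;> omega
    have h6 : X = zj (S : Subgroup G) := Subgroup.eq_of_le_of_card_ge hX (by rw [h4, h5])
    rw [h6]
    exact centralizer_le_normalizer _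
  have hS2 : IsPGroup 2 (zj (S : Subgroup G)) := S.isPGroup'.to_le ((zj_le_bau _).trans (bau_le _))
  have hBX : bau (S : Subgroup G) ≤ centralizer (X : Set G) :=
    (Dich.bau_le_cent _).trans (centralizer_le (by exact_mod_cast hX))
  have hc := char2_cent h.hyp.ctx.char2 (hS2.to_le hX) hX1
  obtain ⟨T₁, hT₁, hBT₁⟩ := exists_syl (S.isPGroup'.to_le (bau_le _)) hBX
  obtain ⟨Y, hY, hYH, hYM, hYJ⟩ := exists_par S hT₁ hBT₁ hcon
  by_cases hYc : Y ≤ centralizer (zc T₁ : Set G)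
  · -- a larger bad group
    have hXz : X ≤ zc T₁ := by
      intro z hz
      exact mem_zc.2 ⟨hBT₁ (zj_le_bau _ (hX hz)), (mem_zj.1 (hX hz)).2.1, fun t ht =>
        (mem_centralizer_iff.1 (hT₁.1 ht) z hz).symm⟩
    have h1 : Bad S (zc T₁) := ⟨fun hle => hYM (hYc.trans hle), T₁, hT₁.2.1, hBT₁, rfl⟩
    exact hne (hXz.trans (m.max _ h1 (hCX.trans hXz)))
  · have hTY : Syl T₁ Y := ⟨hY.le, hT₁.2.1, fun Q hQ h2 hTQ => hT₁.2.2 Q (hQ.trans hYH) h2 hTQ⟩
    have hcY : Y ⊓ centralizer (o2 Y : Set G) ≤ o2 Y := by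
      have h4 : o2 (centralizer (X : Set G)) ≤ o2 Y :=
        le_o2 (isPGroup_o2 _) ((o2_le_syl hT₁).trans hY.le) (hYH.trans (MinSimple.VModule.le_normalizer_o2 _))
      rintro x ⟨hx, hxc⟩
      exact h4 (hc ⟨hYH hx, centralizer_le (by exact_mod_cast h4) hxc⟩)
    obtain ⟨L', V', Z', q', hF, hLY, -⟩ :=
      NO3S.EMany.FourD.exists_fb hFF S hTY hBT₁ hY hcY hYJ hYc
    obtain ⟨-, i, -, -, h1 | ⟨-, h1, -⟩⟩ := h.uniPlus hF
    · refine hηC i ((h1.2.1 η (hX (hCX hη))).2 fun l hl => ?_)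
      exact (mem_centralizer_iff.1 (hYH (hLY hl)) η (hCX hη)).symm
    · exact h4 h1

/-- **(b)** -/
theorem MaxC.mem (h : Line S P L W Z C A 2) (hFF : FFThm.Stmt.{u}) {C₀ T₀ : Subgroup G} (m : MaxC S C₀ T₀)
    [Nonempty ι] {f x : G} (hf : f ∈ centralizer (C₀ : Set G)) (hx : x ∈ zj (S : Subgroup G))
    (hx0 : x ∉ C₀) (hfx : f⁻¹ * x * f ∈ zj (S : Subgroup G)) :
    f ∈ normalizer (zj (S : Subgroup G) : Set G) := by
  set X : Subgroup G := zj (S : Subgroup G) ⊓ cj f (zj (S : Subgroup G)) with hX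
  have hCX : C₀ ≤ X := by
    refine le_inf m.le fun c hc => ?_
    rw [mem_cj]
    have h1 := mem_centralizer_iff.1 hf c hc
    have e : f⁻¹ * c * f = c := by rw [mul_assoc, h1]; group
    rw [e]
    exact m.le hc
  have h1 := m.cent h hFF (X := X) inf_le_left hCX fun hle => hx0 (hle (mem_inf.2 ⟨hx, mem_cj.2 hfx⟩))
  apply mem_of_cj S
  refine le_trans ?_ h1
  have h2 : cj f (bau (S : Subgroup G)) ≤ centralizer ((cj f (zj (S : Subgroup G)) : Subgroup G) : Set G) := by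
    rw [← cj_centralizer]
    exact cj_mono f (Dich.bau_le_cent _)
  exact h2.trans (centralizer_le (by exact_mod_cast (inf_le_right : X ≤ _)))

end line

end Cfsg.Agent.Omega.OM.YTwo

end

section


/-!
# THEOREM Y2, stage `-1`: the end

`exists_sit` : a maximal bad group `C₀` gives `Swap.Sit`; `cent_zc_le` : **`C_G(Ω₁(Z(T))) ≤ N_G(Z_J)`** for every
2-group `T ≥ B(S)`; `cent_zc_le_of_nat` : the same from `HypJ` and a sum of `k ≥ 2` natural `SL₂(2)`-modules.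
-/

set_option autoImplicit false
set_option linter.unusedSectionVars false

namespace Cfsg.Agent.Omega.OM.YTwo

open Subgroup Cfsg Cfsg.Agent.ZN.ChoiceBase Cfsg.Agent.ZN.ChoiceSit
open Cfsg.Agent.ZN (jj zj bau zc zl o2)
open Cfsg.Agent.MinSimple.MinParabolic (IsMinPar)
open Cfsg.Agent.Omega.OM.Swap
open Cfsg.Agent.Omega.NO3S.EThree.Frame (Bs)
open Cfsg.Agent.Omega.NO3S (HypJ)
open Cfsg.Agent.Omega.FFThm (NatK)
open Cfsg.Agent.Omega.FrameFF (cv)

universe u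

variable {G : Type u} [Group G] [Finite G]

section bs

variable {ι : Type} [Finite ι] {S : Sylow 2 G} {P : Subgroup G} {L W Z C A : ι → Subgroup G}

theorem toLine (h : Bs S P L W Z C A 2 (mm (S : Subgroup G))) : Line S P L W Z C A 2 := ⟨h.hyp, h.fr, h.two⟩

/-- natural modules: `L i` normalises all `W j`. -/
theorem cj_L_W (h : Bs S P L W Z C A 2 (mm (S : Subgroup G))) {i j : ι} {l : G} (hl : l ∈ L i) :
    cj l (W j) = W j := by
  by_cases hij : i = j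
  · subst hij
    refine Subgroup.eq_of_le_of_card_ge ?_ (by rw [card_cj])
    rintro _ ⟨w, hw, rfl⟩
    exact (h.fr.blk i).nV l hl w hw
  · obtain ⟨σ, hσ⟩ := h.perm l (h.LP i hl)
    have h1 := (hσ j).1
    obtain ⟨z, hz, hz1⟩ := Z_ne (toLine h) j
    have h2 : l * z = z * l := h.fr.LC i l hl z (h.fr.Z_le j hz) (Z_C (toLine h) hij hz)
    have h3 : z ∈ W (σ j) := by
      rw [← h1, mem_cj]
      have e : l⁻¹ * z * l = z := by rw [mul_assoc, ← h2, inv_mul_cancel_left]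
      rw [e]
      exact Z_W (toLine h) j hz
    have h4 : σ j = j := by
      by_contra hne
      have h5 : z ∈ W (σ j) ⊓ W j := mem_inf.2 ⟨h3, Z_W (toLine h) j hz⟩
      rw [h.W_disj hne, mem_bot] at h5
      exact hz1 h5
    rwa [h4] at h1

/-- **(0.2)** a nontrivial element of `∏_{j ∈ r} W j` conjugate into `Z a` lies in some `W j`. -/
theorem wt (h : Bs S P L W Z C A 2 (mm (S : Subgroup G))) {r : Set ι} {y g : G} {a : ι} (hy : y ∈ ⨆ j ∈ r, W j)
    (hy1 : y ≠ 1) (hg : g⁻¹ * y * g ∈ Z a) : ∃ j ∈ r, y ∈ W j := by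
  obtain ⟨k, hk, hx⟩ := conj_ZJ h.fr r hy
  have hxJ : k * y * k⁻¹ ∈ zj (S : Subgroup G) :=
    (iSup₂_le fun i _ => h.fr.Z_le i : (⨆ i ∈ r, Z i) ≤ zj (S : Subgroup G)) hx
  have h1 : (k * g)⁻¹ * (k * y * k⁻¹) * (k * g) ∈ Z a := by
    have e : (k * g)⁻¹ * (k * y * k⁻¹) * (k * g) = g⁻¹ * y * g := by group
    rwa [e]
  obtain ⟨j, hj⟩ := h.fus hxJ h1
  have hkn : k ∈ normalizer (W j : Set G) :=
    (iSup₂_le fun i _ l hl => mem_normalizer_iff_cj.2 (cj_L_W h hl) :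
      (⨆ i ∈ r, L i) ≤ normalizer (W j : Set G)) hk
  refine ⟨j, ?_, ?_⟩
  · by_contra hjr
    have h2 : (⨆ i ∈ r, Z i) ≤ C j := iSup₂_le fun i hi =>
      Z_C (toLine h) (fun e => hjr (e ▸ hi)) 
    have h3 : k * y * k⁻¹ ∈ W j ⊓ C j := mem_inf.2 ⟨Z_W (toLine h) j hj, h2 hx⟩
    rw [h.fr.dir j, mem_bot] at h3
    exact hy1 (conj_eq_one_iff.1 h3)
  · exact (mem_normalizer_iff.1 hkn y).2 (Z_W (toLine h) j hj)

/-- An element of `O₂(F)` inducing the transvection on `W i`. -/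
theorem exists_tv (h : Bs S P L W Z C A 2 (mm (S : Subgroup G))) {F T : Subgroup G} (hT : Syl T F)
    (hB : bau (S : Subgroup G) ≤ T) {i i' : ι} (hne : i ≠ i') {s : G} (hs : s ∈ o2 F) (e : cj s (W i') = W i)
    {z : G} (hz : z ∈ Z i) (hz1 : z ≠ 1) :
    ∃ u ∈ o2 F, ∀ x ∈ W i, x ∉ Z i → u * x * u⁻¹ = x * z := by
  have h2 := h.fr.Ane i
  push Not at h2
  obtain ⟨a, ha, v, hv, hav⟩ := h2
  have haB := h.fr.AB i ha
  have haF : a ∈ F := hT.1 (hB haB)
  have hO : ∀ x ∈ o2 F, a * x * a⁻¹ ∈ o2 F := fun x hx =>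
    (mem_normalizer_iff.1 (MinSimple.VModule.le_normalizer_o2 F haF) x).1 hx
  refine ⟨s * (a * s⁻¹ * a⁻¹), mul_mem hs (hO _ (inv_mem hs)), fun x hx hxZ => ?_⟩
  -- `y = a⁻¹ x a = x z`
  have h3 : a⁻¹ * x * a⁻¹⁻¹ = x * z := by
    rcases act h.fr hz hz1 (inv_mem haB) hx with h4 | h4
    · exfalso
      apply hav
      refine (h.fr.blk i).free a haB x hx hxZ ?_ v hv
      have h5 : a * (a⁻¹ * x * a⁻¹⁻¹) = a * x := by rw [h4]
      have e5 : a * (a⁻¹ * x * a⁻¹⁻¹) = x * a := by group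
      exact h5.symm.trans e5
    · exact h4
  have hyW : x * z ∈ W i := mul_mem hx ((h.fr.blk i).ZV hz)
  have h6 : s⁻¹ * (x * z) * s ∈ W i' := by
    rw [← mem_cj, e]
    exact hyW
  have h7 := h.fr.AC i a ha _ (h.fr.WjC i i' hne h6)
  have e8 : s * (a * s⁻¹ * a⁻¹) * x * (s * (a * s⁻¹ * a⁻¹))⁻¹ =
      s * (a * (s⁻¹ * (a⁻¹ * x * a⁻¹⁻¹) * s)) * a⁻¹ * s⁻¹ := by group
  rw [e8, h3, h7]
  group

/-- **A maximal bad group gives the situation of THEOREM SW.** -/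
theorem exists_sit (h : Bs S P L W Z C A 2 (mm (S : Subgroup G))) (hFF : FFThm.Stmt.{u}) (hA : FFBr.AStmt.{u})
    [Nonempty ι] {C₀ T₀ : Subgroup G} (m : MaxC S C₀ T₀) :
    ∃ (T F F₀ : Subgroup G) (κ : Type) (V : κ → Subgroup G) (z : κ → G), Swap.Sit F T F₀ V z := by
  classical
  have hl := toLine h
  have hmf := mf hl
  have hC1 : C₀ ≠ ⊥ := by
    rintro rfl
    obtain ⟨η, hη, hηC⟩ := m.full hl
    rw [mem_bot] at hη
    exact hηC (Classical.arbitrary ι) (hη ▸ one_mem _)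
  have hS2 : IsPGroup 2 (zj (S : Subgroup G)) := S.isPGroup'.to_le ((zj_le_bau _).trans (bau_le _))
  have hc := char2_cent h.hyp.ctx.char2 (hS2.to_le m.le) hC1
  obtain ⟨Y, hY, hYH, hYM, hYJ⟩ := exists_par S m.syl m.BT m.not
  have hYc : Y ≤ centralizer (zc T₀ : Set G) := by
    have := m.eq
    rw [← this]
    exact hYH
  obtain ⟨T, F, hp, hFY⟩ := exists_pair_of hl hA (centralizer_le_normalizer _) (Dich.norm_zj _) m.syl m.BT hc hY
    hYH hYJ hYc hYM
  have hFC : F ≤ centralizer (C₀ : Set G) := hFY.trans hYH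
  have hTN : T ≤ normalizer (bau (S : Subgroup G) : Set G) := Dich.two_le S hp.syl.2.1 hp.BT
  have hTM : T ≤ normalizer (zj (S : Subgroup G) : Set G) := hTN.trans (Dich.norm_zj _)
  have hO : o2 F ≤ T := o2_le_syl hp.syl
  have hON : o2 F ≤ normalizer (bau (S : Subgroup G) : Set G) := hO.trans hTN
  have hTF : T ≤ F := hp.syl.1
  choose z hz hz1 using Z_ne hl
  -- an index moved by `O₂(F)`
  obtain ⟨i₀, o₀, ho₀, hmv⟩ : ∃ i, ∃ o ∈ o2 F, cj o (Z i) ≠ Z i := by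
    by_contra hcon
    push Not at hcon
    apply hp.nM
    have h1 : zj (S : Subgroup G) ≤ centralizer (F : Set G) := by
      intro x hx
      refine hp.fix ⟨hx, mem_centralizer_iff.2 fun o ho => ?_⟩
      refine comm_of_supp hl (hON ho) hx fun i j e => ?_
      rw [hcon i o ho] at e
      rw [Swap.Z_inj hl e]
    exact (le_centralizer_iff.1 h1).trans (centralizer_le_normalizer _)
  -- its orbit
  set r : Set ι := {j | ∃ o ∈ o2 F, cj o (Z i₀) = Z j} with hr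
  have hrO : ∀ o ∈ o2 F, ∀ i j, cj o (Z i) = Z j → (i ∈ r ↔ j ∈ r) := by
    intro o ho i j e
    constructor
    · rintro ⟨o', ho', e'⟩
      exact ⟨o * o', mul_mem ho ho', cj_mul_eq e' e⟩
    · rintro ⟨o', ho', e'⟩
      exact ⟨o⁻¹ * o', mul_mem (inv_mem ho) ho', cj_mul_eq e' (cj_inv_eq e)⟩
  have hi₀ : i₀ ∈ r := ⟨1, one_mem _, cj_one _⟩
  obtain ⟨j₀, hj₀, -⟩ := Swap.perm hl (hON ho₀) i₀
  have hj₀r : j₀ ∈ r := ⟨o₀, ho₀, hj₀⟩
  have hne₀ : i₀ ≠ j₀ := by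
    rintro rfl
    exact hmv hj₀
  have htr : ∀ i ∈ r, ∀ j ∈ r, ∃ o ∈ o2 F, cj o (W i) = W j := by
    rintro i ⟨o, ho, e⟩ j ⟨o', ho', e'⟩
    refine ⟨o' * o⁻¹, mul_mem ho' (inv_mem ho), ?_⟩
    exact W_cj hl (hON (mul_mem ho' (inv_mem ho))) (cj_mul_eq (cj_inv_eq e) e')
  -- elements of `Z_J` with support `r` are centralised by `F`
  have hsuppF : ∀ x ∈ zj (S : Subgroup G), (∀ i, x ∈ C i ↔ i ∉ r) → ∀ f ∈ F, f * x = x * f := by
    intro x hx hxs f hf
    refine mem_centralizer_iff.1 (hp.fix ⟨hx, mem_centralizer_iff.2 fun o ho => ?_⟩) f hf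
    refine comm_of_supp hl (hON ho) hx fun i j e => ?_
    rw [hxs i, hxs j, hrO o ho i j e]
  obtain ⟨xr, hxr, hxrs⟩ := exists_supp hl r
  -- `T` stabilises `r`
  have hrT : ∀ t ∈ T, ∀ i j, cj t (Z i) = Z j → i ∈ r → j ∈ r := by
    intro t ht i j e hi
    by_contra hj
    have h1 := (supp_cj hl (hTN ht) e hxr).1
    have h2 := hsuppF xr hxr hxrs t (hTF ht)
    have h3 : t * xr * t⁻¹ = xr := by rw [h2]; group
    rw [h3] at h1
    exact (hxrs i).1 (h1 ((hxrs j).2 hj)) hi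
  -- `z i ∉ C₀`
  have hnC : ∀ i ∈ r, z i ∉ C₀ := by
    rintro i ⟨o, ho, e⟩ hi
    have hgO : o * o₀ * o⁻¹ ∈ o2 F := mul_mem (mul_mem ho ho₀) (inv_mem ho)
    have h1 : o * o₀ * o⁻¹ * z i = z i * (o * o₀ * o⁻¹) :=
      (mem_centralizer_iff.1 (hFC (o2_le F hgO)) (z i) hi).symm
    obtain ⟨k, hk, -, -⟩ := Swap.perm hl (hON hgO) i
    have h2 := conj_gen hl hk (hz i) (hz1 i) (hz k) (hz1 k)
    have h3 : o * o₀ * o⁻¹ * z i * (o * o₀ * o⁻¹)⁻¹ = z i := by rw [h1]; group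
    have h4 : i = k := by
      by_contra hne
      refine hz1 i (Z_inf hl.fr hne (hz i) ?_)
      have h5 : z i = z k := h3.symm.trans h2
      rw [h5]
      exact hz k
    apply hmv
    rw [← h4] at hk
    have h5 : cj o⁻¹ (cj (o * o₀ * o⁻¹) (cj o (Z i₀))) = cj o⁻¹ (cj o (Z i₀)) := by rw [e, hk]
    rw [cj_cj, cj_cj, cj_inv_cj] at h5
    have e2 : o⁻¹ * (o * o₀ * o⁻¹ * o) = o₀ := by group
    have e3 : o⁻¹ * (o * o₀ * o⁻¹) * o = o₀ := by group
    first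
      | rwa [e2] at h5
      | rwa [e3] at h5
  -- `T` normalises `U = ∏_{j ∈ r} W j`
  have hUT : ∀ t ∈ T, ∀ x ∈ (⨆ j ∈ r, W j), t * x * t⁻¹ ∈ (⨆ j ∈ r, W j) := by
    intro t ht x hx
    have h1 : (⨆ j ∈ r, W j) ≤ (⨆ j ∈ r, W j).comap (MulAut.conj t).toMonoidHom := by
      refine iSup₂_le fun j hj w hw => ?_
      show t * w * t⁻¹ ∈ ⨆ j ∈ r, W j
      obtain ⟨k, hk, hkW, -⟩ := Swap.perm hl (hTN ht) j
      have h2 : t * w * t⁻¹ ∈ W k := by
        rw [← hkW]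
        exact ⟨w, hw, rfl⟩
      exact (le_iSup₂_of_le (f := fun j (_ : j ∈ r) => W j) k (hrT t ht j k hk hj) le_rfl) h2
    exact h1 hx
  -- transvections in `O₂(F)`
  have htv : ∀ i ∈ r, ∃ u ∈ o2 F, ∀ x ∈ W i, x ∉ Z i → u * x * u⁻¹ = x * z i := by
    intro i hi
    obtain ⟨i', hi', hne⟩ : ∃ i' ∈ r, i ≠ i' := by
      by_cases h1 : i = i₀
      · exact ⟨j₀, hj₀r, h1 ▸ hne₀⟩
      · exact ⟨i₀, hi₀, h1⟩
    obtain ⟨s, hs, e⟩ := htr i' hi' i hi
    exact exists_tv h hp.syl hp.BT hne hs e (hz i) (hz1 i)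
  -- (TI)
  have hti : ∀ i ∈ r, ∀ x ∈ W i, x ≠ 1 → ∀ f ∈ F, x ∈ cj f (⨆ j ∈ r, W j) →
      f ∈ normalizer (zj (S : Subgroup G) : Set G) := by
    intro i hi x hx hx1 f hf hxf
    rw [mem_cj] at hxf
    have hfO : ∀ o ∈ o2 F, f * o * f⁻¹ ∈ o2 F := fun o ho =>
      (mem_normalizer_iff.1 (MinSimple.VModule.le_normalizer_o2 F hf) o).1 ho
    have hfO' : ∀ o ∈ o2 F, f⁻¹ * o * f ∈ o2 F := fun o ho => by
      have h1 := (mem_normalizer_iff.1 (MinSimple.VModule.le_normalizer_o2 F (inv_mem hf)) o).1 ho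
      rwa [inv_inv] at h1
    -- `z_i ∈ U^f`
    have hzi : f⁻¹ * z i * f ∈ (⨆ j ∈ r, W j) := by
      by_cases hxZ : x ∈ Z i
      · have e := Z_eq hl hxZ (hz i) hx1 (hz1 i)
        rwa [← e]
      · obtain ⟨u, hu, hux⟩ := htv i hi
        have h1 := hux x hx hxZ
        have h2 := hUT (f⁻¹ * u * f) (hO (hfO' u hu)) _ hxf
        have h3 := mul_mem (inv_mem hxf) h2
        have e : (f⁻¹ * x * f)⁻¹ * (f⁻¹ * u * f * (f⁻¹ * x * f) * (f⁻¹ * u * f)⁻¹) =
            f⁻¹ * (x⁻¹ * (u * x * u⁻¹)) * f := by group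
        rw [e, h1] at h3
        have e2 : f⁻¹ * (x⁻¹ * (x * z i)) * f = f⁻¹ * z i * f := by group
        rwa [e2] at h3
    have hne : f⁻¹ * z i * f ≠ 1 := by
      intro h1
      apply hz1 i
      have e : z i = f * (f⁻¹ * z i * f) * f⁻¹ := by group
      rw [e, h1]; group
    obtain ⟨j, hj, hwj⟩ := wt h hzi hne (g := f⁻¹) (a := i) (by
      have e : f⁻¹⁻¹ * (f⁻¹ * z i * f) * f⁻¹ = z i := by group
      rw [e]; exact hz i)
    by_cases hwZ : f⁻¹ * z i * f ∈ Z j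
    · exact m.mem hl hFF (hFC hf) (hl.fr.Z_le i (hz i)) (hnC i hi) (hl.fr.Z_le j hwZ)
    exfalso
    obtain ⟨u, hu, huw⟩ := htv j hj
    have h1 := huw _ hwj hwZ
    have hv := hfO u hu
    obtain ⟨k, hk, -, -⟩ := Swap.perm hl (hON hv) i
    have h2 := conj_gen hl hk (hz i) (hz1 i) (hz k) (hz1 k)
    have h3 : z k = z i * (f * z j * f⁻¹) := by
      have e : f * u * f⁻¹ * z i * (f * u * f⁻¹)⁻¹ = f * (u * (f⁻¹ * z i * f) * u⁻¹) * f⁻¹ := by group
      rw [e, h1] at h2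
      rw [← h2]; group
    have hik : i ≠ k := by
      rintro rfl
      apply hz1 j
      have h4 : f * z j * f⁻¹ = 1 := by
        have := congrArg (fun t => (z i)⁻¹ * t) h3
        simpa using this.symm
      exact conj_eq_one_iff.1 h4
    have h5 : (z i)⁻¹ * z k ∈ zj (S : Subgroup G) :=
      mul_mem (inv_mem (hl.fr.Z_le i (hz i))) (hl.fr.Z_le k (hz k))
    have h6 : f⁻¹ * ((z i)⁻¹ * z k) * f ∈ Z j := by
      have e : f⁻¹ * ((z i)⁻¹ * z k) * f = z j := by rw [h3]; group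
      rw [e]; exact hz j
    obtain ⟨l, hl'⟩ := h.fus h5 h6
    by_cases hli : l = i
    · subst hli
      have h7 : z k ∈ Z l := by
        have := mul_mem (hz l) hl'
        rwa [mul_inv_cancel_left] at this
      exact hz1 k (Z_inf hl.fr hik.symm (hz k) h7)
    · have h7 : (z i)⁻¹ * z k ∈ C i := Z_C hl (fun e => hli e.symm) hl'
      have h8 : z k ∈ C i := Z_C hl hik (hz k)
      have h9 : (z i)⁻¹ ∈ C i := (Subgroup.mul_mem_cancel_right _ h8).1 h7
      exact not_mem_C hl (hz i) (hz1 i) (by simpa using inv_mem h9)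
  have hsup : (⨆ j : r, W j) = ⨆ j ∈ r, W j := iSup_subtype' (f := fun j (_ : j ∈ r) => W j) |>.symm
  have hWV : ∀ i, W i ≤ zl (S : Subgroup G) P := hl.fr.WV
  refine ⟨T, F, F ⊓ normalizer (zj (S : Subgroup G) : Set G), r, fun i => W i, fun i => z i, ?_⟩
  refine
    { syl := hp.syl
      TF₀ := le_inf hTF hTM
      F₀F := lt_of_le_of_ne inf_le_left fun e => hp.nM (inf_eq_left.1 e)
      max := fun K hTK hKF => le_inf hKF.le (hp.min K hTK hKF)
      nJ := ?_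
      fin := inferInstance
      two := ⟨⟨i₀, hi₀⟩, ⟨j₀, hj₀r⟩, fun e => hne₀ (congrArg Subtype.val e)⟩
      card := fun i => by rw [(hl.fr.blk i).card, hl.fr.cardZ]
      zV := fun i => Z_W hl _ (hz i)
      z1 := fun i => hz1 i
      VO := fun i => (hWV i).trans hp.VO
      sq := fun i x hx => by
        rw [← pow_two]
        exact SQ1.Bau.elem_sq hl.fr.el x (hWV i hx)
      comm := fun f hf i j x hx y hy => comm_of_pair hl hp hf (hWV i hx) (hWV j hy)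
      ind := ?_
      perm := ?_
      tr := ?_
      act := fun X hX a ha i x hx => hmf.act X (AA_two S hp.syl.2.1 hp.BT hX) a ha i x hx (z i) (hz i) (hz1 i)
      hat := ?_
      mov := ?_
      zc := ?_
      ti := ?_ }
  · by_contra hcon
    push Not at hcon
    apply hp.nJ
    rw [← LemmaK.Main.jj_eq S hp.syl.2.1 hp.BT, Cfsg.Agent.ZN.ChoiceBase.jj_eq]
    exact sSup_le hcon
  · rintro ⟨i, hi⟩ x hx hx'
    have h1 : (⨆ j : r, ⨆ _ : j ≠ ⟨i, hi⟩, W j) ≤ C i := by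
      refine iSup_le fun j => iSup_le fun hj => ?_
      exact hl.fr.WjC i j fun e => hj (Subtype.ext e.symm)
    have h2 : x ∈ W i ⊓ C i := mem_inf.2 ⟨hx, h1 hx'⟩
    rwa [hl.fr.dir i, mem_bot] at h2
  · rintro t ht ⟨i, hi⟩
    obtain ⟨j, h1, h2, -⟩ := Swap.perm hl (hTN ht) i
    exact ⟨⟨j, hrT t ht i j h1 hi⟩, h2, conj_gen hl h1 (hz i) (hz1 i) (hz j) (hz1 j)⟩
  · rintro ⟨i, hi⟩ ⟨j, hj⟩
    exact htr i hi j hj
  · rintro X hX ⟨i, hi⟩ hmv'
    obtain ⟨a, ha, h1, h2⟩ := hmf.hat X (AA_two S hp.syl.2.1 hp.BT hX) i hmv'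
    exact ⟨a, ha, h1, fun j hj x hx => h2 j (fun e => hj (Subtype.ext e)) x hx⟩
  · rintro ⟨i, hi⟩
    have h1 : A i ∈ AA T := by
      rw [mem_AA_iff]
      refine ⟨hl.fr.Ael i, (hl.fr.AB i).trans hp.BT, ?_⟩
      rw [mm_two S hp.syl.2.1 hp.BT, hl.fr.Am i]
    have h2 := hl.fr.Ane i
    push Not at h2
    obtain ⟨a, ha, v, hv, hne⟩ := h2
    exact ⟨A i, h1, a, ha, v, hv, hne⟩
  · rintro ⟨i, hi⟩ ⟨j, hj⟩ hij hall f hf
    have hij' : i ≠ j := fun e => hij (Subtype.ext e)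
    have hall' : ∀ k ∈ r, k = i ∨ k = j := by
      intro k hk
      rcases hall ⟨k, hk⟩ with e | e
      · exact Or.inl (congrArg Subtype.val e)
      · exact Or.inr (congrArg Subtype.val e)
    refine hsuppF (z i * z j) (mul_mem (hl.fr.Z_le i (hz i)) (hl.fr.Z_le j (hz j))) (fun k => ?_) f hf
    by_cases hki : k = i
    · subst hki
      rw [Subgroup.mul_mem_cancel_right _ (Z_C hl hij' (hz j))]
      exact ⟨fun h1 => absurd h1 (not_mem_C hl (hz k) (hz1 k)), fun h1 => absurd hi h1⟩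
    · by_cases hkj : k = j
      · subst hkj
        rw [Subgroup.mul_mem_cancel_left _ (Z_C hl hki (hz i))]
        exact ⟨fun h1 => absurd h1 (not_mem_C hl (hz k) (hz1 k)), fun h1 => absurd hj h1⟩
      · refine ⟨fun _ hk => ?_, fun _ => mul_mem (Z_C hl hki (hz i)) (Z_C hl hkj (hz j))⟩
        rcases hall' k hk with e | e
        · exact hki e
        · exact hkj e
  · rintro ⟨i, hi⟩ x hx hx1 f hf hxf
    rw [hsup] at hxf
    exact mem_inf.2 ⟨hf, hti i hi x hx hx1 f hf hxf⟩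

/-- **THEOREM Y2** (stage `-1`): `C_G(Ω₁(Z(T))) ≤ N_G(Z_J)` for every 2-group `T ≥ B`. -/
theorem cent_zc_le (hs : SitFalse.{u}) (h : Bs S P L W Z C A 2 (mm (S : Subgroup G))) (hFF : FFThm.Stmt.{u})
    (hA : FFBr.AStmt.{u}) {T : Subgroup G} (hT : IsPGroup 2 T) (hB : bau (S : Subgroup G) ≤ T) :
    centralizer (zc T : Set G) ≤ normalizer (zj (S : Subgroup G) : Set G) := by
  by_contra hcon
  rcases isEmpty_or_nonempty ι with hι | hι
  · have h1 : zj (S : Subgroup G) = ⊥ := by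
      rw [eq_bot_iff]
      intro x hx
      exact mem_bot.2 (h.fr.C0 x (h.fr.ZJV hx) fun i => hι.elim i)
    apply hcon
    rw [h1, normalizer_eq_top]
    exact le_top
  obtain ⟨C₀, T₀, m⟩ := exists_maxC S ⟨hcon, T, hT, hB, rfl⟩
  obtain ⟨T, F, F₀, κ, V, z, hS⟩ := exists_sit h hFF hA m
  exact hs G F T F₀ κ V z hS

end bs

/-- **THEOREM Y2** from `HypJ` and a sum of `k ≥ 2` natural `SL₂(2)`-modules. -/
theorem cent_zc_le_of_nat {S : Sylow 2 G} {P : Subgroup G} (h : HypJ S P) (hFF : FFThm.Stmt.{u})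
    (hA : FFBr.AStmt.{u}) {F : Type} [Field F] [Finite F] [CharP F 2] (hF : Nat.card F = 2) {k : ℕ} (hk : 2 ≤ k)
    (N : NatK F (S : Subgroup G) P (zl (S : Subgroup G) P) (cv (S : Subgroup G) P) k)
    {T : Subgroup G} (hT : IsPGroup 2 T) (hB : bau (S : Subgroup G) ≤ T) :
    centralizer (zc T : Set G) ≤ normalizer (zj (S : Subgroup G) : Set G) := by
  obtain ⟨L, Z, A, hBs, -⟩ := NO3S.EThree.Frame.exists_bs h hk N
  rw [hF] at hBs
  exact cent_zc_le Swap.sitFalse hBs hFF hA hT hB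

end Cfsg.Agent.Omega.OM.YTwo

end

section


/-!
# (E), `k ≥ 3`: THEOREM LV (bb #22180), (0.2) and its consequences, over `Bg`

* `exists_cj_ZJ` : `v ∈ V_P` is conjugate into `Z_J` by an element of `P` fixing all factors;
* `mem_W_of` : (0.2) `w ∈ W m`, `g w g⁻¹ ∈ V_P` implies `g w g⁻¹ ∈ W n` for some `n`;
* `cj_W_of_le` : (0.2') `r ∈ N(Z i)`, `(W i)^r ≤ V_P` implies `(W i)^r = W i`;
* `norm_C` : `N(V_P) ⊓ N(W i) ≤ N(C i)`.
-/

set_option autoImplicit false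
set_option linter.unusedSectionVars false

namespace Cfsg.Agent.Omega.ELV

open Subgroup Cfsg Cfsg.Agent.ZN.ChoiceBase
open Cfsg.Agent.ZN (zc zl o2)
open Cfsg.Agent.ZN.ChoiceSit (Syl exists_syl syl_conj)
open Cfsg.Agent.Omega.NO3S.EThree.Frame
open Cfsg.Agent.Omega.OM.Uni

universe u

variable {G : Type u} [Group G]

theorem mem_of_cj_eq {X : Subgroup G} {g : G} (e : cj g X = X) {x : G} : g * x * g⁻¹ ∈ X ↔ x ∈ X := by
  constructor
  · intro h1
    rw [← e, mem_cj] at h1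
    have e1 : g⁻¹ * (g * x * g⁻¹) * g = x := by group
    rwa [e1] at h1
  · intro h1
    rw [← e]
    exact ⟨x, h1, rfl⟩

variable [Finite G] {S : Sylow 2 G} {P : Subgroup G} {ι : Type} [Finite ι] {B ZJ : Subgroup G}
  {L W Z C : ι → Subgroup G} {q : ℕ} (h : Bg S P B ZJ L W Z C q)
include h

theorem P_norm : P ≤ normalizer (zl (S : Subgroup G) P : Set G) := MinSimple.VModule.le_normalizer_zl _ _

omit [Finite ι] in
theorem perm_of {l : G} (hl : l ∈ P) {n : ι} (e : cj l (W n) = W n) : cj l (C n) = C n := by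
  obtain ⟨σ, hσ⟩ := h.perm l hl
  have h1 := (hσ n).1
  rw [e] at h1
  have h2 : σ n = n := (h.W_inj h1).symm
  rw [(hσ n).2, h2]

/-- an element of `V_P` whose components lie in the `Z n` lies in `Z_J` -/
theorem mem_ZJ_of {v : G} (hv : v ∈ zl (S : Subgroup G) P) (hc : ∀ n, ∃ z ∈ Z n, ∃ c ∈ C n, v = z * c) : v ∈ ZJ := by
  refine (h.fr.mem_ZJ v).2 ⟨hv, fun b hb => ?_⟩
  have hbv : b * v * b⁻¹ ∈ zl (S : Subgroup G) P := (mem_normalizer_iff.1 (h.bau_norm hb) v).1 hv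
  have h1 : b * v * b⁻¹ * v⁻¹ = 1 := by
    refine h.fr.C0 _ (mul_mem hbv (inv_mem hv)) fun n => ?_
    obtain ⟨z, hz, c, hc, e⟩ := hc n
    have hz1 := (h.fr.blk n).cZ b hb z hz
    have hbc := h.fr.BC n b hb c hc
    have h2 := h.fr.Vc (h.fr.ZV n hz) (h.fr.CV n (mul_mem hbc (inv_mem hc)))
    have e1 : b * v * b⁻¹ * v⁻¹ = b * c * b⁻¹ * c⁻¹ := by
      rw [e]
      calc b * (z * c) * b⁻¹ * (z * c)⁻¹ = (b * z) * c * b⁻¹ * c⁻¹ * z⁻¹ := by group
        _ = (z * b) * c * b⁻¹ * c⁻¹ * z⁻¹ := by rw [hz1]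
        _ = z * (b * c * b⁻¹ * c⁻¹) * z⁻¹ := by group
        _ = (b * c * b⁻¹ * c⁻¹) * z * z⁻¹ := by rw [h2]
        _ = b * c * b⁻¹ * c⁻¹ := by group
    rw [e1]
    exact mul_mem hbc (inv_mem hc)
  exact mul_inv_eq_iff_eq_mul.1 (mul_inv_eq_one.1 h1)

/-- An element of `V_P` is conjugate into `Z_J` by an element of `P` which fixes all factors. -/
theorem exists_cj_ZJ {v : G} (hv : v ∈ zl (S : Subgroup G) P) :
    ∃ l ∈ P, (∀ n, cj l (W n) = W n) ∧ l * v * l⁻¹ ∈ ZJ := by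
  classical
  have := Fintype.ofFinite ι
  have key : ∀ s : Finset ι, ∃ l ∈ P, (∀ n, cj l (W n) = W n) ∧
      ∀ n ∈ s, ∃ z ∈ Z n, ∃ c ∈ C n, l * v * l⁻¹ = z * c := by
    intro s
    induction s using Finset.induction_on with
    | empty => exact ⟨1, one_mem _, fun n => cj_one _, fun n hn => absurd hn (Finset.notMem_empty n)⟩
    | insert m s hm ih =>
      obtain ⟨l, hl, hlW, hls⟩ := ih
      have hv' : l * v * l⁻¹ ∈ zl (S : Subgroup G) P := (mem_normalizer_iff.1 (P_norm h hl) v).1 hv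
      obtain ⟨w, hw, c, hc, e⟩ := h.fr.WC m _ hv'
      by_cases hw1 : w = 1
      · refine ⟨l, hl, hlW, fun n hn => ?_⟩
        rcases Finset.mem_insert.1 hn with rfl | hn
        · exact ⟨1, one_mem _, c, hc, by rw [e, hw1]⟩
        · exact hls n hn
      · obtain ⟨l', hl', hlc, z, hz, e1⟩ := h.tr m w hw hw1
        have hl'W : ∀ n, cj l'⁻¹ (W n) = W n := fun n => h.fix (inv_mem hl') (inv_mem hlc) n
        refine ⟨l'⁻¹ * l, mul_mem (inv_mem hl') hl, fun n => by rw [← cj_cj, hlW, hl'W], fun n hn => ?_⟩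
        have e2 : l'⁻¹ * l * v * (l'⁻¹ * l)⁻¹ = l'⁻¹ * (l * v * l⁻¹) * l' := by group
        rcases Finset.mem_insert.1 hn with rfl | hn
        · refine ⟨z, hz, c, hc, ?_⟩
          have h3 := mem_centralizer_iff.1 hlc c hc
          rw [e2, e, ← e1]
          calc l'⁻¹ * (l' * z * l'⁻¹ * c) * l' = z * (l'⁻¹ * (c * l')) := by group
            _ = z * (l'⁻¹ * (l' * c)) := by rw [h3]
            _ = z * c := by group
        · obtain ⟨z', hz', c', hc', e3⟩ := hls n hn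
          have hnm : n ≠ m := fun e => hm (e ▸ hn)
          have h3 := mem_centralizer_iff.1 hlc z' (h.fr.WjC m n hnm.symm ((h.fr.blk n).ZV hz'))
          refine ⟨z', hz', l'⁻¹ * c' * l', ?_, ?_⟩
          · have h4 := perm_of h (inv_mem hl') (hl'W n)
            have h5 := (mem_of_cj_eq h4).2 hc'
            rwa [inv_inv] at h5
          · rw [e2, e3]
            calc l'⁻¹ * (z' * c') * l' = l'⁻¹ * (z' * l') * (l'⁻¹ * c' * l') := by group
              _ = l'⁻¹ * (l' * z') * (l'⁻¹ * c' * l') := by rw [h3]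
              _ = z' * (l'⁻¹ * c' * l') := by group
  obtain ⟨l, hl, hlW, hls⟩ := key Finset.univ
  exact ⟨l, hl, hlW, mem_ZJ_of h ((mem_normalizer_iff.1 (P_norm h hl) v).1 hv) fun n => hls n (Finset.mem_univ _)⟩

/-- **(0.2)** for elements of the `Z m`. -/
theorem mem_W_of_Z {m : ι} {z g : G} (hz : z ∈ Z m) (hg : g * z * g⁻¹ ∈ zl (S : Subgroup G) P) :
    ∃ n, g * z * g⁻¹ ∈ W n := by
  obtain ⟨l, hl, hlW, hlv⟩ := exists_cj_ZJ h hg
  obtain ⟨n, hn⟩ := h.fus (i := m) (g := l * g) hlv (by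
    have e : (l * g)⁻¹ * (l * (g * z * g⁻¹) * l⁻¹) * (l * g) = z := by group
    rw [e]
    exact hz)
  exact ⟨n, (mem_of_cj_eq (hlW n)).1 ((h.fr.blk n).ZV hn)⟩

/-- **(0.2)** -/
theorem mem_W_of {m : ι} {w g : G} (hw : w ∈ W m) (hg : g * w * g⁻¹ ∈ zl (S : Subgroup G) P) :
    ∃ n, g * w * g⁻¹ ∈ W n := by
  by_cases hw1 : w = 1
  · refine ⟨m, ?_⟩
    rw [hw1, mul_one, mul_inv_cancel]
    exact one_mem _
  obtain ⟨l, hl, hlc, z, hz, e⟩ := h.tr m w hw hw1
  have e1 : g * w * g⁻¹ = (g * l) * z * (g * l)⁻¹ := by rw [← e]; group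
  rw [e1] at hg ⊢
  exact mem_W_of_Z h hz hg

/-- **(0.2')** -/
theorem cj_W_of_le {i : ι} {r : G} (hr : r ∈ normalizer (Z i : Set G))
    (hle : cj r (W i) ≤ zl (S : Subgroup G) P) : cj r (W i) = W i := by
  obtain ⟨z, hz, hz1⟩ : ∃ x ∈ Z i, x ≠ 1 := by
    by_contra hcon
    push Not at hcon
    exact h.Z_ne i ((eq_bot_iff_forall _).2 hcon)
  have hzr : z ∈ cj r (W i) := by
    have h1 := cj_mono r (h.fr.blk i).ZV
    rw [mem_normalizer_iff_cj.1 hr] at h1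
    exact h1 hz
  refine Subgroup.eq_of_le_of_card_ge ?_ (by rw [card_cj])
  have key : ∀ u ∈ cj r (W i), ∃ n, u ∈ W n := by
    rintro _ ⟨w, hw, rfl⟩
    exact mem_W_of h hw (hle ⟨w, hw, rfl⟩)
  intro u hu
  obtain ⟨n, hn⟩ := key u hu
  obtain ⟨n', hn'⟩ := key (u * z) (mul_mem hu hzr)
  by_cases h1 : n = i
  · rwa [h1] at hn
  by_cases h2 : n' = i
  · rw [h2] at hn'
    have h3 := mul_mem hn' (inv_mem ((h.fr.blk i).ZV hz))
    rwa [mul_inv_cancel_right] at h3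
  exfalso
  have h3 : z ∈ W i ⊓ C i := by
    refine ⟨(h.fr.blk i).ZV hz, ?_⟩
    have h4 := mul_mem (inv_mem (h.fr.WjC i n (Ne.symm h1) hn)) (h.fr.WjC i n' (Ne.symm h2) hn')
    rwa [inv_mul_cancel_left] at h4
  rw [h.fr.dir i, mem_bot] at h3
  exact hz1 h3

/-- an element of `N(Z i)` normalising `V_P` normalises `W i` -/
theorem norm_W {i : ι} {g : G} (hV : g ∈ normalizer (zl (S : Subgroup G) P : Set G))
    (hg : g ∈ normalizer (Z i : Set G)) : g ∈ normalizer (W i : Set G) := by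
  rw [mem_normalizer_iff_cj]
  refine cj_W_of_le h hg ?_
  have h1 := cj_mono g (h.fr.WV i)
  rwa [mem_normalizer_iff_cj.1 hV] at h1

/-- an element of `N(W i)` normalising `V_P` normalises `C i` -/
theorem norm_C {i : ι} {g : G} (hV : g ∈ normalizer (zl (S : Subgroup G) P : Set G))
    (hg : g ∈ normalizer (W i : Set G)) : g ∈ normalizer (C i : Set G) := by
  have key : cj g (C i) ≤ C i := by
    refine (cj_mono g (h.C_le i)).trans ?_
    have e5 : cj g (⨆ l : {l : ι // l ≠ i}, W l) = ⨆ l : {l : ι // l ≠ i}, cj g (W l) :=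
      Subgroup.map_iSup _ _
    rw [e5]
    refine iSup_le fun l => ?_
    rintro _ ⟨w, hw, rfl⟩
    have h1 : g * w * g⁻¹ ∈ zl (S : Subgroup G) P := (mem_normalizer_iff.1 hV w).1 (h.fr.WV l hw)
    obtain ⟨n, hn⟩ := mem_W_of h hw h1
    change g * w * g⁻¹ ∈ C i
    by_cases hni : n = i
    · rw [hni] at hn
      have h2 : w ∈ W i := (mem_normalizer_iff.1 hg w).2 hn
      have h3 : w ∈ W i ⊓ W l := ⟨h2, hw⟩
      rw [h.W_disj l.2.symm, mem_bot] at h3
      rw [h3, mul_one, mul_inv_cancel]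
      exact one_mem _
    · exact h.fr.WjC i n (Ne.symm hni) hn
  rw [mem_normalizer_iff_cj]
  exact Subgroup.eq_of_le_of_card_ge key (by rw [card_cj])

end Cfsg.Agent.Omega.ELV

end
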